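import Mathlib

set_option autoImplicit false
universe u

namespace Groth.Agent.GaDual

open Finset

variable {A : Type u} [CommRing A] (p : ℕ) [hp : Fact p.Prime] [CharP A p]

theorem choose_cast_mod_div (n k : ℕ) :
    (n.choose k : A) = ((n % p).choose (k % p) : A) * ((n / p).choose (k / p) : A) := by
  rw [← Nat.cast_mul, CharP.natCast_eq_natCast A p]
  exact Choose.choose_modEq_choose_mod_mul_choose_div_nat

theorem choose_prime_pow_cast (t n : ℕ) : (n.choose (p ^ t) : A) = ((n / p ^ t : ℕ) : A) := by
  induction t generalizing n with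
  | zero => simp
  | succ t ih =>
    rw [choose_cast_mod_div p, pow_succ', Nat.mul_mod_right, Nat.mul_div_cancel_left _ hp.out.pos,
      Nat.choose_zero_right, Nat.cast_one, one_mul, ih, Nat.div_div_eq_div_mul]

theorem choose_mul_prime_pow_cast (t a b : ℕ) :
    ((a * p ^ t).choose (b * p ^ t) : A) = (a.choose b : A) := by
  induction t with
  | zero => simp
  | succ t ih =>
    rw [choose_cast_mod_div p, pow_succ, ← mul_assoc, ← mul_assoc, Nat.mul_mod_left, Nat.mul_mod_left,
      Nat.mul_div_cancel _ hp.out.pos, Nat.mul_div_cancel _ hp.out.pos, ih]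
    simp

theorem choose_add_mul_prime_pow_cast (t a r : ℕ) (hr : r < p ^ t) :
    ((r + a * p ^ t).choose r : A) = 1 := by
  induction t generalizing r with
  | zero => simp at hr; simp [hr]
  | succ t ih =>
    rw [choose_cast_mod_div p]
    have h1 : (r + a * p ^ (t + 1)) % p = r % p := by
      rw [pow_succ, ← mul_assoc, Nat.add_mul_mod_self_right]
    have h2 : (r + a * p ^ (t + 1)) / p = r / p + a * p ^ t := by
      rw [pow_succ, ← mul_assoc, Nat.add_mul_div_right _ _ hp.out.pos]
    rw [h1, h2, ih _ (Nat.div_lt_of_lt_mul (by rwa [← pow_succ']))]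
    simp

theorem isUnit_natCast {a : ℕ} (h0 : a ≠ 0) (ha : a < p) : IsUnit (a : A) := by
  rw [CharP.isUnit_natCast_iff (R := A) hp.out]
  exact fun h => (Nat.le_of_dvd (Nat.pos_of_ne_zero h0) h).not_gt ha

theorem isUnit_natCast' {a : ℕ} (h : ¬ p ∣ a) : IsUnit (a : A) :=
  (CharP.isUnit_natCast_iff (R := A) hp.out).2 h

theorem isUnit_factorial {a : ℕ} (ha : a < p) : IsUnit (a.factorial : A) := by
  rw [CharP.isUnit_natCast_iff (R := A) hp.out, hp.out.dvd_factorial]
  omega

/-- exponent vector of `X₀ ^ i * X₁ ^ j` -/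
noncomputable def sd (i j : ℕ) : Fin 2 →₀ ℕ := Finsupp.single 0 i + Finsupp.single 1 j

theorem sd_apply_zero (i j : ℕ) : sd i j 0 = i := by simp [sd]
theorem sd_apply_one (i j : ℕ) : sd i j 1 = j := by simp [sd]

theorem sd_inj {i j i' j' : ℕ} : sd i j = sd i' j' ↔ i = i' ∧ j = j' := by
  refine ⟨fun h => ⟨?_, ?_⟩, fun ⟨a, b⟩ => by rw [a, b]⟩
  · simpa [sd_apply_zero] using DFunLike.congr_fun h 0
  · simpa [sd_apply_one] using DFunLike.congr_fun h 1

theorem eq_sd (d : Fin 2 →₀ ℕ) : d = sd (d 0) (d 1) := by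
  ext i; fin_cases i
  · simp [sd_apply_zero]
  · simp [sd_apply_one]

theorem sd_add (i j i' j' : ℕ) : sd i j + sd i' j' = sd (i + i') (j + j') := by
  ext x; fin_cases x
  · simp [sd_apply_zero]
  · simp [sd_apply_one]

open MvPolynomial in
theorem monomial_sd (i j : ℕ) (c : A) :
    monomial (sd i j) c = C c * X 0 ^ i * X 1 ^ j := by
  rw [X_pow_eq_monomial, X_pow_eq_monomial, C_mul_monomial, monomial_mul, mul_one, mul_one]
  rfl

open MvPolynomial in
omit hp [CharP A p] in
theorem coeff_add_pow_sd (m i j : ℕ) :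
    coeff (sd i j) ((X 0 + X 1 : MvPolynomial (Fin 2) A) ^ m) =
      if i + j = m then ((i + j).choose i : A) else 0 := by
  rw [add_pow, coeff_sum]
  have : ∀ a ∈ range (m + 1), coeff (sd i j) ((X 0 : MvPolynomial (Fin 2) A) ^ a * X 1 ^ (m - a) * (m.choose a : MvPolynomial (Fin 2) A)) =
      if a = i ∧ m - a = j then (m.choose a : A) else 0 := fun a _ => by
    rw [← map_natCast (C : A →+* MvPolynomial (Fin 2) A), mul_comm, ← mul_assoc, ← monomial_sd, coeff_monomial]
    simp only [sd_inj]
  rw [Finset.sum_congr rfl this]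
  split
  · subst m
    rw [Finset.sum_eq_single i]
    · simp
    · intro a _ ha; simp [ha]
    · intro h; simp at h
  · refine Finset.sum_eq_zero fun a ha => if_neg ?_
    rw [Finset.mem_range] at ha
    rintro ⟨rfl, rfl⟩
    omega

open MvPolynomial in
omit hp [CharP A p] in
theorem coeff_aeval_add (f : Polynomial A) (i j : ℕ) :
    coeff (sd i j) (Polynomial.aeval (X 0 + X 1 : MvPolynomial (Fin 2) A) f) =
      ((i + j).choose i : A) * f.coeff (i + j) := by
  induction f using Polynomial.induction_on' with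
  | add f g hf hg => rw [map_add, coeff_add, hf, hg, Polynomial.coeff_add, mul_add]
  | monomial m c =>
    rw [Polynomial.aeval_monomial, MvPolynomial.algebraMap_eq, coeff_C_mul, coeff_add_pow_sd, Polynomial.coeff_monomial]
    by_cases h : i + j = m
    · subst h; simp [mul_comm]
    · simp [h, Ne.symm h]

open MvPolynomial in
omit hp [CharP A p] in
theorem coeff_aeval_X_zero (f : Polynomial A) (i j : ℕ) :
    coeff (sd i j) (Polynomial.aeval (X 0 : MvPolynomial (Fin 2) A) f) = if j = 0 then f.coeff i else 0 := by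
  induction f using Polynomial.induction_on' with
  | add f g hf hg => rw [map_add, coeff_add, hf, hg]; split <;> simp
  | monomial m c =>
    rw [Polynomial.aeval_monomial, MvPolynomial.algebraMap_eq,
      show C c * (X 0 : MvPolynomial (Fin 2) A) ^ m = monomial (sd m 0) c by rw [monomial_sd]; simp,
      coeff_monomial, Polynomial.coeff_monomial]
    simp only [sd_inj]
    by_cases h1 : j = 0 <;> by_cases h2 : m = i <;> simp [h1, h2, eq_comm]

open MvPolynomial in
omit hp [CharP A p] in
theorem coeff_aeval_X_one (f : Polynomial A) (i j : ℕ) :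
    coeff (sd i j) (Polynomial.aeval (X 1 : MvPolynomial (Fin 2) A) f) = if i = 0 then f.coeff j else 0 := by
  induction f using Polynomial.induction_on' with
  | add f g hf hg => rw [map_add, coeff_add, hf, hg]; split <;> simp
  | monomial m c =>
    rw [Polynomial.aeval_monomial, MvPolynomial.algebraMap_eq,
      show C c * (X 1 : MvPolynomial (Fin 2) A) ^ m = monomial (sd 0 m) c by rw [monomial_sd]; simp,
      coeff_monomial, Polynomial.coeff_monomial]
    simp only [sd_inj]
    by_cases h1 : i = 0 <;> by_cases h2 : m = j <;> simp [h1, h2, eq_comm]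

open MvPolynomial in
omit hp [CharP A p] in
theorem coeff_aeval_mul (f g : Polynomial A) (i j : ℕ) :
    coeff (sd i j) (Polynomial.aeval (X 0 : MvPolynomial (Fin 2) A) f *
      Polynomial.aeval (X 1 : MvPolynomial (Fin 2) A) g) = f.coeff i * g.coeff j := by
  classical
  rw [coeff_mul, Finset.sum_eq_single (sd i 0, sd 0 j)]
  · simp [coeff_aeval_X_zero, coeff_aeval_X_one]
  · rintro ⟨a, b⟩ hab hne
    rw [Finset.HasAntidiagonal.mem_antidiagonal] at hab
    rw [eq_sd a, eq_sd b, coeff_aeval_X_zero, coeff_aeval_X_one]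
    by_cases h1 : a 1 = 0
    · by_cases h2 : b 0 = 0
      · exfalso; apply hne
        have e0 := DFunLike.congr_fun hab 0
        have e1 := DFunLike.congr_fun hab 1
        simp [sd_apply_zero, sd_apply_one, h1, h2] at e0 e1
        rw [eq_sd a, eq_sd b, h1, h2, e0, e1]
      · simp [h2]
    · simp [h1]
  · intro h; exfalso; apply h; simp [sd_add]

open PowerSeries in
omit hp [CharP A p] in
theorem coeff_subst_add (χ : PowerSeries A) (i j : ℕ) :
    MvPowerSeries.coeff (sd i j)
        (PowerSeries.subst (MvPowerSeries.X 0 + MvPowerSeries.X 1 : MvPowerSeries (Fin 2) A) χ) =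
      ((i + j).choose i : A) * PowerSeries.coeff (i + j) χ := by
  have hc : ∀ d, MvPowerSeries.coeff (sd i j) ((MvPowerSeries.X 0 + MvPowerSeries.X 1 : MvPowerSeries (Fin 2) A) ^ d) =
      if i + j = d then ((i + j).choose i : A) else 0 := fun d => by
    rw [← coeff_add_pow_sd d i j,
      ← MvPolynomial.coeff_coe ((MvPolynomial.X 0 + MvPolynomial.X 1 : MvPolynomial (Fin 2) A) ^ d)]
    simp
  rw [coeff_subst (HasSubst.of_constantCoeff_zero (by simp)), finsum_eq_single _ (i + j)]
  · rw [hc, if_pos rfl, smul_eq_mul, mul_comm]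
  · intro d hd; rw [hc, if_neg (Ne.symm hd), smul_zero]

omit hp [CharP A p] in
theorem coeff_subst_mul (χ ψ : PowerSeries A) (i j : ℕ) :
    MvPowerSeries.coeff (sd i j)
        (PowerSeries.subst (MvPowerSeries.X 0 : MvPowerSeries (Fin 2) A) χ *
          PowerSeries.subst (MvPowerSeries.X 1 : MvPowerSeries (Fin 2) A) ψ) =
      PowerSeries.coeff i χ * PowerSeries.coeff j ψ := by
  classical
  rw [MvPowerSeries.coeff_mul, Finset.sum_eq_single (sd i 0, sd 0 j)]
  · rw [PowerSeries.coeff_subst_single, PowerSeries.coeff_subst_single]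
    simp [sd]
  · rintro ⟨a, b⟩ hab hne
    rw [Finset.HasAntidiagonal.mem_antidiagonal] at hab
    rw [PowerSeries.coeff_subst_single, PowerSeries.coeff_subst_single]
    by_cases h1 : a = Finsupp.single 0 (a 0)
    · by_cases h2 : b = Finsupp.single 1 (b 1)
      · exfalso; apply hne
        have ha1 : a 1 = 0 := by rw [h1]; simp
        have hb0 : b 0 = 0 := by rw [h2]; simp
        have e0 := DFunLike.congr_fun hab 0
        have e1 := DFunLike.congr_fun hab 1
        simp [sd_apply_zero, sd_apply_one, ha1, hb0] at e0 e1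
        rw [eq_sd a, eq_sd b, ha1, hb0, e0, e1]
      · simp [h2]
    · simp [h1]
  · intro h; exfalso; apply h; simp [sd_add]

end Groth.Agent.GaDual
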