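import Groth.Agent.GaDual.Binom

set_option autoImplicit false
universe u

namespace Groth.Agent.GaDual

open Finset

variable {A : Type u} [CommRing A]

/-- divided power relations up to total degree `q` -/
def DP (c : ℕ → A) (q : ℕ) : Prop :=
  ∀ i j, i + j ≤ q → c i * c j = ((i + j).choose i : A) * c (i + j)

theorem dp_of_lt {c : ℕ → A} {q : ℕ} (h0 : c 0 = 1)
    (h : ∀ i j, i < q → j < q → c i * c j = ((i + j).choose i : A) * c (i + j)) : DP c q := by
  intro i j hij
  rcases Nat.lt_or_ge i q with hi | hi
  · rcases Nat.lt_or_ge j q with hj | hj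
    · exact h i j hi hj
    · obtain rfl : i = 0 := by omega
      simp [h0]
  · obtain rfl : j = 0 := by omega
    simp [h0]

/-- the multiplicativity of a polynomial, coefficientwise -/
theorem isChar_iff (f : Polynomial A) :
    Polynomial.aeval (MvPolynomial.X 0 + MvPolynomial.X 1 : MvPolynomial (Fin 2) A) f =
        Polynomial.aeval (MvPolynomial.X 0 : MvPolynomial (Fin 2) A) f *
          Polynomial.aeval (MvPolynomial.X 1 : MvPolynomial (Fin 2) A) f ↔
      ∀ q, DP f.coeff q := by
  constructor
  · intro h q i j _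
    have := congrArg (MvPolynomial.coeff (sd i j)) h
    rw [coeff_aeval_add, coeff_aeval_mul] at this
    exact this.symm
  · intro h
    refine MvPolynomial.ext _ _ fun d => ?_
    rw [eq_sd d, coeff_aeval_add, coeff_aeval_mul]
    exact (h _ _ _ le_rfl).symm

theorem isFormalChar_iff (χ : PowerSeries A) :
    PowerSeries.subst (MvPowerSeries.X 0 + MvPowerSeries.X 1 : MvPowerSeries (Fin 2) A) χ =
        PowerSeries.subst (MvPowerSeries.X 0 : MvPowerSeries (Fin 2) A) χ *
          PowerSeries.subst (MvPowerSeries.X 1 : MvPowerSeries (Fin 2) A) χ ↔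
      ∀ q, DP (fun n => PowerSeries.coeff n χ) q := by
  constructor
  · intro h q i j _
    have := congrArg (MvPowerSeries.coeff (sd i j)) h
    rw [coeff_subst_add, coeff_subst_mul] at this
    exact this.symm
  · intro h
    refine MvPowerSeries.ext fun d => ?_
    rw [eq_sd d, coeff_subst_add, coeff_subst_mul]
    exact (h _ _ _ le_rfl).symm

variable (p : ℕ) [hp : Fact p.Prime]

/-- truncated exponential of `a X ^ (p ^ t)` -/
noncomputable def expE (a : A) (t : ℕ) : Polynomial A :=
  ∑ j ∈ range p, Polynomial.C (Ring.inverse (j.factorial : A) * a ^ j) * Polynomial.X ^ (j * p ^ t)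

theorem coeff_expE (a : A) (t m : ℕ) :
    (expE p a t).coeff m =
      if p ^ t ∣ m ∧ m / p ^ t < p then Ring.inverse ((m / p ^ t).factorial : A) * a ^ (m / p ^ t) else 0 := by
  have hq : 0 < p ^ t := pow_pos hp.out.pos t
  simp only [expE, Polynomial.finsetSum_coeff, Polynomial.coeff_C_mul_X_pow]
  split
  · rename_i h
    rw [Finset.sum_eq_single (m / p ^ t)]
    · rw [if_pos (Nat.div_mul_cancel h.1).symm]
    · intro b _ hb
      rw [if_neg]
      rintro rfl
      exact hb (Nat.mul_div_cancel _ hq).symm
    · intro hn; exact absurd (Finset.mem_range.2 h.2) hn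
  · rename_i h
    refine Finset.sum_eq_zero fun b hb => if_neg ?_
    rintro rfl
    exact h ⟨dvd_mul_left _ _, by rw [Nat.mul_div_cancel _ hq]; exact Finset.mem_range.1 hb⟩

theorem eval_zero_expE (a : A) (t : ℕ) : (expE p a t).eval 0 = 1 := by
  rw [← Polynomial.coeff_zero_eq_eval_zero, coeff_expE]
  simp [hp.out.pos]

variable [CharP A p]

theorem choose_mul_prime_pow_cast_eq_zero : ∀ (t k i : ℕ), ¬ p ^ t ∣ i →
    ((k * p ^ t).choose i : A) = 0
  | 0, k, i, h => by simp at h
  | t + 1, k, i, h => by
    rw [choose_cast_mod_div p, pow_succ, ← mul_assoc, Nat.mul_mod_left, Nat.mul_div_cancel _ hp.out.pos]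
    by_cases hi : i % p = 0
    · rw [choose_mul_prime_pow_cast_eq_zero t k (i / p) (fun h' => h (by
        rw [pow_succ, ← Nat.div_mul_cancel (Nat.dvd_of_mod_eq_zero hi)]
        exact mul_dvd_mul_right h' _)), mul_zero]
    · rw [Nat.choose_eq_zero_of_lt (Nat.pos_of_ne_zero hi)]; simp

theorem dp_expE {a : A} (ha : a ^ p = 0) (t q : ℕ) : DP (expE p a t).coeff q := by
  intro i j _
  have hq : 0 < p ^ t := pow_pos hp.out.pos t
  simp only [coeff_expE]
  by_cases hi : p ^ t ∣ i
  · by_cases hj : p ^ t ∣ j
    · obtain ⟨x, rfl⟩ := hi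
      obtain ⟨y, rfl⟩ := hj
      simp only [← mul_add, dvd_mul_right, true_and, Nat.mul_div_cancel_left _ hq]
      rw [show ((p ^ t * (x + y)).choose (p ^ t * x) : A) = ((x + y).choose x : A) by
        rw [mul_comm _ (x + y), mul_comm _ x, choose_mul_prime_pow_cast p]]
      by_cases hxy : x + y < p
      · rw [if_pos (by omega), if_pos (by omega), if_pos hxy]
        have h1 := isUnit_factorial (A := A) p (show x < p by omega)
        have h2 := isUnit_factorial (A := A) p (show y < p by omega)
        have h3 := isUnit_factorial (A := A) p hxy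
        have key : Ring.inverse (x.factorial : A) * Ring.inverse (y.factorial : A) =
            ((x + y).choose x : A) * Ring.inverse ((x + y).factorial : A) := by
          apply (h1.mul h2).mul_left_cancel
          calc _ = ((x.factorial : A) * Ring.inverse (x.factorial : A)) *
                ((y.factorial : A) * Ring.inverse (y.factorial : A)) := by ring
            _ = 1 := by rw [Ring.mul_inverse_cancel _ h1, Ring.mul_inverse_cancel _ h2, one_mul]
            _ = ((x + y).factorial : A) * Ring.inverse ((x + y).factorial : A) :=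
                (Ring.mul_inverse_cancel _ h3).symm
            _ = _ := by rw [← Nat.choose_mul_factorial_mul_factorial (Nat.le_add_right x y), Nat.add_sub_cancel_left]; push_cast; ring
        rw [mul_mul_mul_comm, key, ← pow_add, mul_assoc]
      · rw [if_neg hxy, mul_zero]
        split_ifs with h1 h2
        · rw [mul_mul_mul_comm, ← pow_add, pow_eq_zero_of_le (by omega) ha, mul_zero]
        all_goals simp
    · rw [if_neg (show ¬(p ^ t ∣ j ∧ j / p ^ t < p) from fun h => hj h.1), mul_zero, if_neg, mul_zero]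
      exact fun h => hj ((Nat.dvd_add_right hi).1 h.1)
  · rw [if_neg (show ¬(p ^ t ∣ i ∧ i / p ^ t < p) from fun h => hi h.1), zero_mul]
    split_ifs with h
    · obtain ⟨k, hk⟩ := h.1
      rw [hk, mul_comm (p ^ t) k, choose_mul_prime_pow_cast_eq_zero p t k i hi, zero_mul]
    · rw [mul_zero]

theorem isChar_prod_expE (s : Finset ℕ) (a : ℕ → A) (ha : ∀ n, a n ^ p = 0) :
    (∏ n ∈ s, expE p (a n) n).eval 0 = 1 ∧ ∀ q, DP (∏ n ∈ s, expE p (a n) n).coeff q := by
  refine ⟨?_, (isChar_iff _).1 ?_⟩
  · rw [Polynomial.eval_prod]; exact Finset.prod_eq_one fun n _ => eval_zero_expE p _ _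
  · rw [map_prod, map_prod, map_prod, ← Finset.prod_mul_distrib]
    exact Finset.prod_congr rfl fun n _ => (isChar_iff _).2 fun q => dp_expE p (ha n) n q

theorem pow_eq_factorial_mul {c : ℕ → A} (h0 : c 0 = 1) {n : ℕ} (h : DP c (p ^ n)) {t : ℕ} (ht : t < n) :
    ∀ k, k ≤ p → c (p ^ t) ^ k = (k.factorial : A) * c (k * p ^ t)
  | 0, _ => by simp [h0]
  | k + 1, hk => by
    have hle : (k + 1) * p ^ t ≤ p ^ n :=
      (Nat.mul_le_mul_right _ hk).trans (by rw [← pow_succ']; exact Nat.pow_le_pow_right hp.out.pos ht)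
    have := h (p ^ t) (k * p ^ t) (by rw [add_mul, one_mul] at hle; omega)
    rw [show p ^ t + k * p ^ t = (k + 1) * p ^ t by ring, choose_prime_pow_cast p,
      Nat.mul_div_cancel _ (pow_pos hp.out.pos t)] at this
    rw [pow_succ, pow_eq_factorial_mul h0 h ht k (by omega), Nat.factorial_succ, mul_assoc, mul_comm (c _), this]
    push_cast; ring

theorem pow_prime_eq_zero {c : ℕ → A} (h0 : c 0 = 1) {n : ℕ} (h : DP c (p ^ n)) {t : ℕ} (ht : t < n) :
    c (p ^ t) ^ p = 0 := by
  rw [pow_eq_factorial_mul p h0 h ht p le_rfl,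
    (CharP.cast_eq_zero_iff A p p.factorial).2 (Nat.dvd_factorial hp.out.pos le_rfl), zero_mul]

theorem coeff_prod_expE {c : ℕ → A} (h0 : c 0 = 1) {n : ℕ} (h : DP c (p ^ n)) :
    ∀ N, N ≤ n → ∀ m, (∏ t ∈ range N, expE p (c (p ^ t)) t).coeff m = if m < p ^ N then c m else 0 := by
  intro N
  induction N with
  | zero =>
    intro _ m
    rcases Nat.eq_zero_or_pos m with rfl | hm
    · simp [h0]
    · simp [Polynomial.coeff_one, hm.ne']
  | succ N ih =>
    intro hN m
    have hq : 0 < p ^ N := pow_pos hp.out.pos N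
    rw [Finset.prod_range_succ, expE, Finset.mul_sum, Polynomial.finsetSum_coeff]
    set P := ∏ t ∈ range N, expE p (c (p ^ t)) t
    have hterm : ∀ j, j < p → (P * (Polynomial.C (Ring.inverse (j.factorial : A) * c (p ^ N) ^ j) *
        Polynomial.X ^ (j * p ^ N))).coeff m = if j * p ^ N ≤ m ∧ m < (j + 1) * p ^ N then c m else 0 := by
      intro j hj
      rw [← mul_assoc, Polynomial.coeff_mul_X_pow']
      by_cases h1 : j * p ^ N ≤ m
      · rw [if_pos h1, Polynomial.coeff_mul_C, ih (by omega)]
        by_cases h2 : m < (j + 1) * p ^ N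
        · rw [if_pos (by rw [add_mul, one_mul] at h2; omega), if_pos ⟨h1, h2⟩,
            pow_eq_factorial_mul p h0 h (by omega) j hj.le, ← mul_assoc (Ring.inverse _),
            Ring.inverse_mul_cancel _ (isUnit_factorial p hj), one_mul]
          have hr : m - j * p ^ N < p ^ N := by rw [add_mul, one_mul] at h2; omega
          have hle : (j + 1) * p ^ N ≤ p ^ n :=
            (Nat.mul_le_mul_right _ hj).trans (by rw [← pow_succ']; exact Nat.pow_le_pow_right hp.out.pos hN)
          rw [h _ _ (by omega), choose_add_mul_prime_pow_cast p N j _ hr, one_mul]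
          congr 1; omega
        · rw [if_neg (by rw [add_mul, one_mul] at h2; omega), if_neg (fun h => h2 h.2), zero_mul]
      · rw [if_neg h1, if_neg fun h => h1 h.1]
    rw [Finset.sum_congr rfl fun j hj => hterm j (Finset.mem_range.1 hj)]
    split
    · rename_i hm
      have h1 : m / p ^ N < p := (Nat.div_lt_iff_lt_mul hq).2 (by rwa [← pow_succ'])
      rw [Finset.sum_eq_single (m / p ^ N)]
      · rw [if_pos ⟨Nat.div_mul_le_self _ _, Nat.lt_mul_of_div_lt (Nat.lt_succ_self _) hq⟩]
      · intro b _ hb
        rw [if_neg]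
        rintro ⟨h2, h3⟩
        exact hb (Nat.div_eq_of_lt_le h2 h3).symm
      · intro hn; exact absurd (Finset.mem_range.2 h1) hn
    · rename_i hm
      refine Finset.sum_eq_zero fun j hj => if_neg ?_
      rintro ⟨-, h2⟩
      exact hm (h2.trans_le (by rw [pow_succ']; exact Nat.mul_le_mul_right _ (Finset.mem_range.1 hj)))

end Groth.Agent.GaDual
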