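import Groth.Agent.GaDual.Chars

set_option autoImplicit false
universe u

namespace Groth.Agent.GaDual

open Finset

variable {R : Type u} [CommRing R] (p : ℕ) [hp : Fact p.Prime] [CharP R p]

section Core

variable (K : Ideal R) (f : ℕ → ℕ → R) (hK : ∀ i j, f i j ∈ K) (hsymm : ∀ i j, f i j = f j i)
  (hrel : ∀ i j k, 1 ≤ i → 1 ≤ k →
    ((j + k).choose j : R) * f i (j + k) = ((i + j).choose i : R) * f (i + j) k)

omit hp [CharP R p] in
include hrel in
theorem rel' {N i m : ℕ} (hi : 1 ≤ i) (him : i ≤ m) (hm : m < N) :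
    ((N - i).choose (m - i) : R) * f i (N - i) = (m.choose i : R) * f m (N - m) := by
  have := hrel i (m - i) (N - m) hi (by omega)
  rwa [show m - i + (N - m) = N - i by omega, show i + (m - i) = m by omega] at this

include hK hsymm hrel in
theorem core_nonpow {N : ℕ} (hN : 2 ≤ N) (hnp : ∀ t, N ≠ p ^ t) :
    ∃ g ∈ K, ∀ m, 1 ≤ m → m < N → f m (N - m) = g * (N.choose m : R) := by
  obtain ⟨v, M, hM, rfl⟩ := Nat.exists_eq_pow_mul_and_not_dvd (show N ≠ 0 by omega) p hp.out.ne_one
  have hp1 : 1 < p := hp.out.one_lt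
  have hM1 : 1 < M := by
    rcases Nat.lt_or_ge 1 M with h | h
    · exact h
    · interval_cases M
      · simp at hM
      · exact absurd (mul_one _) (hnp v)
  set N := p ^ v * M with hNdef
  have hMu : IsUnit (M : R) := isUnit_natCast' p hM
  have hpv : p ^ v < N := lt_mul_of_one_lt_right (pow_pos hp.out.pos v) hM1
  let g := Ring.inverse (M : R) * f (p ^ v) (N - p ^ v)
  have key : ∀ s, p ^ s < N → f (p ^ s) (N - p ^ s) = g * ((N / p ^ s : ℕ) : R) := by
    intro s hs
    rcases lt_trichotomy s v with hsv | rfl | hsv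
    · -- below the valuation: zero
      have h0 : ((N / p ^ s : ℕ) : R) = 0 := by
        obtain ⟨d, rfl⟩ := Nat.exists_eq_add_of_lt hsv
        rw [CharP.cast_eq_zero_iff R p, hNdef, show p ^ (s + d + 1) * M = p ^ s * (p * (p ^ d * M)) by ring,
          Nat.mul_div_cancel_left _ (pow_pos hp.out.pos s)]
        exact dvd_mul_right _ _
      rw [h0, mul_zero]
      obtain ⟨u, M', hM', hu⟩ := Nat.exists_eq_pow_mul_and_not_dvd (show M - 1 ≠ 0 by omega) p hp.out.ne_one
      have hvw : p ^ v ≤ p ^ (v + u) := Nat.pow_le_pow_right hp.out.pos (by omega)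
      have hsv' : p ^ s < p ^ v := Nat.pow_lt_pow_right hp1 hsv
      have hpos := pow_pos hp.out.pos s
      have hdec : N = p ^ (v + u) * M' + p ^ v := by
        rw [pow_add, mul_assoc, ← hu, ← Nat.mul_succ, hNdef]; congr 1; omega
      have hM'0 : 0 < M' := Nat.pos_of_ne_zero fun h => hM' (h ▸ dvd_zero p)
      have hle : p ^ (v + u) ≤ p ^ (v + u) * M' := Nat.le_mul_of_pos_right _ hM'0
      have h1 := rel' f hrel (N := N) (i := p ^ (v + u)) (m := N - p ^ s) (Nat.one_le_pow _ _ hp.out.pos)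
        (by omega) (by omega)
      rw [choose_prime_pow_cast p (v + u) (N - p ^ s), show N - (N - p ^ s) = p ^ s by omega,
        show N - p ^ s - p ^ (v + u) = (N - p ^ (v + u)) - p ^ s by omega,
        Nat.choose_symm (by omega), choose_prime_pow_cast p s] at h1
      have e1 : (N - p ^ s) / p ^ (v + u) = M' := by
        refine Nat.div_eq_of_lt_le (by rw [mul_comm]; omega) ?_
        rw [add_mul, one_mul, mul_comm]; omega
      have e2 : (((N - p ^ (v + u)) / p ^ s : ℕ) : R) = 0 := by
        obtain ⟨d, rfl⟩ := Nat.exists_eq_add_of_lt hsv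
        rw [CharP.cast_eq_zero_iff R p, hNdef, pow_add p (s + d + 1) u, ← Nat.mul_sub,
          show p ^ (s + d + 1) * (M - p ^ u) = p ^ s * (p * (p ^ d * (M - p ^ u))) by ring,
          Nat.mul_div_cancel_left _ hpos]
        exact dvd_mul_right _ _
      rw [e1, e2, zero_mul] at h1
      rw [hsymm, (isUnit_natCast' p hM').mul_right_eq_zero.1 h1.symm]
    · rw [hNdef, Nat.mul_div_cancel_left _ (pow_pos hp.out.pos _)]
      rw [show g = Ring.inverse (M : R) * f (p ^ s) (N - p ^ s) from rfl, mul_right_comm, Ring.inverse_mul_cancel _ hMu,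
        one_mul]
    · obtain ⟨d, rfl⟩ := Nat.exists_eq_add_of_lt hsv
      have hpv0 := pow_pos hp.out.pos v
      have hps : p ^ (v + d + 1) = p ^ v * p ^ (d + 1) := by ring
      have hcast : ((p ^ (d + 1) : ℕ) : R) = 0 := by simp
      rcases Nat.lt_or_ge (p ^ (v + d + 1) + p ^ v) N with hlt | hge
      · set m := p ^ (v + d + 1) + p ^ v with hm
        have hvs : p ^ v < p ^ (v + d + 1) := Nat.pow_lt_pow_right hp1 (by omega)
        have h1 := rel' f hrel (N := N) (i := p ^ v) (m := m) (Nat.one_le_pow _ _ hp.out.pos) (by omega) hlt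
        have h2 := rel' f hrel (N := N) (i := p ^ (v + d + 1)) (m := m) (Nat.one_le_pow _ _ hp.out.pos) (by omega) hlt
        rw [show m - p ^ v = p ^ (v + d + 1) by omega, choose_prime_pow_cast p, choose_prime_pow_cast p] at h1
        rw [show m - p ^ (v + d + 1) = p ^ v by omega, choose_prime_pow_cast p, choose_prime_pow_cast p] at h2
        have e1 : ((m / p ^ v : ℕ) : R) = 1 := by
          rw [hm, hps, show p ^ v * p ^ (d + 1) + p ^ v = p ^ v * (p ^ (d + 1) + 1) by ring,
            Nat.mul_div_cancel_left _ hpv0, Nat.cast_add, hcast, zero_add, Nat.cast_one]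
        have e2 : m / p ^ (v + d + 1) = 1 :=
          Nat.div_eq_of_lt_le (by omega) (by rw [add_mul, one_mul]; omega)
        have e3 : ((((N - p ^ (v + d + 1)) / p ^ v) : ℕ) : R) = (M : R) := by
          have hle : p ^ (d + 1) ≤ M := by
            have h := hs; rw [hps, hNdef] at h; exact (Nat.lt_of_mul_lt_mul_left h).le
          rw [hps, hNdef, ← Nat.mul_sub, Nat.mul_div_cancel_left _ hpv0, Nat.cast_sub hle, hcast, sub_zero]
        have e4 : (N - p ^ v) / p ^ (v + d + 1) = N / p ^ (v + d + 1) := by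
          rw [hps, hNdef, ← Nat.mul_sub_one, Nat.mul_div_mul_left _ _ hpv0, Nat.mul_div_mul_left _ _ hpv0]
          conv_rhs => rw [show M = (M - 1) + 1 by omega]
          rw [Nat.succ_div_of_not_dvd]
          rw [show (M - 1) + 1 = M by omega]
          exact fun h => hM (dvd_trans (dvd_pow_self p (by omega)) h)
        rw [e1, e4, one_mul] at h1
        rw [e2, e3, Nat.cast_one, one_mul, ← h1] at h2
        rw [show g = Ring.inverse (M : R) * f (p ^ v) (N - p ^ v) from rfl, mul_assoc, mul_comm (f (p ^ v) _), ← h2,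
          ← mul_assoc, Ring.inverse_mul_cancel _ hMu, one_mul]
      · have hle : M ≤ p ^ (d + 1) + 1 := by
          have h : p ^ v * M ≤ p ^ v * (p ^ (d + 1) + 1) := by rw [mul_add, mul_one, ← hps]; exact hge
          exact Nat.le_of_mul_le_mul_left h hpv0
        have hlt : p ^ (d + 1) < M := by
          have h := hs; rw [hps, hNdef] at h; exact Nat.lt_of_mul_lt_mul_left h
        have hMe : M = p ^ (d + 1) + 1 := by omega
        have hN' : N = p ^ (v + d + 1) + p ^ v := by rw [hNdef, hMe, hps]; ring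
        have hvs : p ^ v < p ^ (v + d + 1) := Nat.pow_lt_pow_right hp1 (by omega)
        have e1 : (M : R) = 1 := by rw [hMe, Nat.cast_add, hcast, zero_add, Nat.cast_one]
        have e2 : N / p ^ (v + d + 1) = 1 :=
          Nat.div_eq_of_lt_le (by omega) (by rw [add_mul, one_mul]; omega)
        rw [e2, Nat.cast_one, mul_one, show g = Ring.inverse (M : R) * f (p ^ v) (N - p ^ v) from rfl, e1, Ring.inverse_one, one_mul, hsymm]
        congr 1 <;> omega
  refine ⟨g, K.mul_mem_left _ (hK _ _), fun m h1m hmN => ?_⟩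
  obtain ⟨s, m', hm', rfl⟩ := Nat.exists_eq_pow_mul_and_not_dvd (show m ≠ 0 by omega) p hp.out.ne_one
  have hm'0 : 0 < m' := Nat.pos_of_ne_zero fun h => hm' (h ▸ dvd_zero p)
  have hle : p ^ s ≤ p ^ s * m' := Nat.le_mul_of_pos_right _ hm'0
  have h1 := rel' f hrel (N := N) (i := p ^ s) (m := p ^ s * m') (Nat.one_le_pow _ _ hp.out.pos) hle hmN
  have h2 := congrArg (Nat.cast (R := R)) (Nat.choose_mul (n := N) hle)
  push_cast at h2
  rw [key s (by omega), ← choose_prime_pow_cast p s N] at h1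
  rw [choose_prime_pow_cast p s (p ^ s * m'), Nat.mul_div_cancel_left _ (pow_pos hp.out.pos s)] at h1 h2
  refine (isUnit_natCast' (A := R) p hm').mul_left_cancel ?_
  linear_combination (-1 : R) * h1 - g * h2

include hK hsymm hrel in
theorem core_pow (t : ℕ) :
    ∃ r ∈ K, ∀ m, 1 ≤ m → m < p ^ (t + 1) → f m (p ^ (t + 1) - m) =
      if p ^ t ∣ m then r * ((p.choose (m / p ^ t) / p : ℕ) : R) else 0 := by
  have hp1 : 1 < p := hp.out.one_lt
  set N := p ^ (t + 1) with hNdef
  have hNt : N = p ^ t * p := pow_succ p t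
  have hsmall : ∀ s, s < t → f (p ^ s) (N - p ^ s) = 0 := by
    intro s hs
    obtain ⟨d, rfl⟩ := Nat.exists_eq_add_of_lt hs
    have hst : p ^ s < p ^ (s + d + 1) := Nat.pow_lt_pow_right hp1 (by omega)
    have hpos := pow_pos hp.out.pos s
    have h2t : p ^ (s + d + 1) * 2 ≤ N := by rw [hNt]; exact Nat.mul_le_mul_left _ hp1
    have h1 := rel' f hrel (N := N) (i := p ^ (s + d + 1)) (m := N - p ^ s) (Nat.one_le_pow _ _ hp.out.pos)
      (by omega) (by omega)
    rw [choose_prime_pow_cast p (s + d + 1) (N - p ^ s), show N - (N - p ^ s) = p ^ s by omega,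
      show N - p ^ s - p ^ (s + d + 1) = (N - p ^ (s + d + 1)) - p ^ s by omega,
      Nat.choose_symm (by omega), choose_prime_pow_cast p s] at h1
    have e1 : (N - p ^ s) / p ^ (s + d + 1) = p - 1 := by
      obtain ⟨q, hq⟩ : ∃ q, p = q + 1 := ⟨p - 1, by omega⟩
      have hN' : N = q * p ^ (s + d + 1) + p ^ (s + d + 1) :=
        calc N = p ^ (s + d + 1) * p := hNt
          _ = p ^ (s + d + 1) * (q + 1) := congrArg _ hq
          _ = _ := by ring
      rw [show p - 1 = q by omega]
      exact Nat.div_eq_of_lt_le (by omega) (by rw [add_mul, one_mul]; omega)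
    have e2 : (((N - p ^ (s + d + 1)) / p ^ s : ℕ) : R) = 0 := by
      rw [CharP.cast_eq_zero_iff R p, hNt, ← Nat.mul_sub_one,
        show p ^ (s + d + 1) * (p - 1) = p ^ s * (p * (p ^ d * (p - 1))) by ring, Nat.mul_div_cancel_left _ hpos]
      exact dvd_mul_right _ _
    rw [e1, e2, zero_mul] at h1
    rw [hsymm, (isUnit_natCast (A := R) p (show p - 1 ≠ 0 by omega) (by omega)).mul_right_eq_zero.1 h1.symm]
  refine ⟨f (p ^ t) (N - p ^ t), hK _ _, fun m h1m hmN => ?_⟩
  obtain ⟨s, m', hm', rfl⟩ := Nat.exists_eq_pow_mul_and_not_dvd (show m ≠ 0 by omega) p hp.out.ne_one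
  have hm'0 : 0 < m' := Nat.pos_of_ne_zero fun h => hm' (h ▸ dvd_zero p)
  have hle : p ^ s ≤ p ^ s * m' := Nat.le_mul_of_pos_right _ hm'0
  have h1 := rel' f hrel (N := N) (i := p ^ s) (m := p ^ s * m') (Nat.one_le_pow _ _ hp.out.pos) hle hmN
  rw [choose_prime_pow_cast p s (p ^ s * m'), Nat.mul_div_cancel_left _ (pow_pos hp.out.pos s)] at h1
  have hst : s ≤ t := by
    by_contra hc
    have : p ^ (t + 1) ≤ p ^ s := Nat.pow_le_pow_right hp.out.pos (by omega)
    omega
  rcases hst.lt_or_eq with hs | rfl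
  · rw [hsmall s hs, mul_zero] at h1
    rw [(isUnit_natCast' (A := R) p hm').mul_right_eq_zero.1 h1.symm, if_neg]
    intro h
    obtain ⟨d, rfl⟩ := Nat.exists_eq_add_of_lt hs
    rw [show p ^ (s + d + 1) = p ^ s * p ^ (d + 1) by ring, Nat.mul_dvd_mul_iff_left (pow_pos hp.out.pos s)] at h
    exact hm' (dvd_trans (dvd_pow_self p (by omega)) h)
  · have hm'p : m' < p := by rw [hNt] at hmN; exact Nat.lt_of_mul_lt_mul_left hmN
    rw [if_pos (dvd_mul_right _ _), Nat.mul_div_cancel_left _ (pow_pos hp.out.pos s)]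
    refine (isUnit_natCast' (A := R) p hm').mul_left_cancel ?_
    rw [← h1, show N - p ^ s = (p - 1) * p ^ s by rw [hNt, mul_comm, Nat.sub_one_mul],
      show p ^ s * m' - p ^ s = (m' - 1) * p ^ s by rw [mul_comm, Nat.sub_one_mul],
      choose_mul_prime_pow_cast p, mul_comm, mul_left_comm, ← Nat.cast_mul]
    congr 2
    have hd := hp.out.dvd_choose_self (k := m') (by omega) hm'p
    rw [← Nat.mul_div_assoc _ hd]
    refine (Nat.div_eq_of_eq_mul_left hp.out.pos ?_).symm
    obtain ⟨a, rfl⟩ : ∃ a, m' = a + 1 := ⟨m' - 1, by omega⟩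
    obtain ⟨q, hq⟩ : ∃ q, p = q + 1 := ⟨p - 1, by omega⟩
    rw [hq, Nat.add_sub_cancel, Nat.add_sub_cancel, mul_comm (q.choose a), Nat.add_one_mul_choose_eq, mul_comm]

end Core

section Coeff

open MvPolynomial

/-- exponent vector in three variables -/
noncomputable def sd3 (i j k : ℕ) : Fin 3 →₀ ℕ :=
  Finsupp.single 0 i + Finsupp.single 1 j + Finsupp.single 2 k

theorem sd3_inj {i j k i' j' k' : ℕ} : sd3 i j k = sd3 i' j' k' ↔ i = i' ∧ j = j' ∧ k = k' := by
  refine ⟨fun h => ⟨?_, ?_, ?_⟩, fun ⟨a, b, c⟩ => by rw [a, b, c]⟩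
  · simpa [sd3] using DFunLike.congr_fun h 0
  · simpa [sd3] using DFunLike.congr_fun h 1
  · simpa [sd3] using DFunLike.congr_fun h 2

omit hp [CharP R p] in
theorem monomial_sd3 (i j k : ℕ) (c : R) :
    monomial (sd3 i j k) c = C c * X 0 ^ i * X 1 ^ j * X 2 ^ k := by
  rw [X_pow_eq_monomial, X_pow_eq_monomial, X_pow_eq_monomial, C_mul_monomial, monomial_mul, monomial_mul,
    mul_one, mul_one, mul_one]
  rfl

omit hp [CharP R p] in
theorem coeff_cocycle_terms (F : MvPolynomial (Fin 2) R) (i j k : ℕ) :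
    coeff (sd3 i j k) (aeval ![X 0, X 1 + X 2] F : MvPolynomial (Fin 3) R) =
        ((j + k).choose j : R) * coeff (sd i (j + k)) F ∧
      coeff (sd3 i j k) (aeval ![X 1, X 2] F : MvPolynomial (Fin 3) R) =
        (if i = 0 then coeff (sd j k) F else 0) ∧
      coeff (sd3 i j k) (aeval ![X 0 + X 1, X 2] F : MvPolynomial (Fin 3) R) =
        ((i + j).choose i : R) * coeff (sd (i + j) k) F ∧
      coeff (sd3 i j k) (aeval ![X 0, X 1] F : MvPolynomial (Fin 3) R) =
        (if k = 0 then coeff (sd i j) F else 0) := by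
  induction F using MvPolynomial.induction_on' with
  | add F G hF hG =>
    refine ⟨?_, ?_, ?_, ?_⟩
    · rw [map_add, coeff_add, hF.1, hG.1, coeff_add, mul_add]
    · rw [map_add, coeff_add, hF.2.1, hG.2.1]; split <;> simp
    · rw [map_add, coeff_add, hF.2.2.1, hG.2.2.1, coeff_add, mul_add]
    · rw [map_add, coeff_add, hF.2.2.2, hG.2.2.2]; split <;> simp
  | monomial d c =>
    obtain ⟨a, b, rfl⟩ : ∃ a b, d = sd a b := ⟨d 0, d 1, eq_sd d⟩
    have hA : ∀ v : Fin 2 → MvPolynomial (Fin 3) R, aeval v (monomial (sd a b) c) = C c * v 0 ^ a * v 1 ^ b :=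
      fun v => by rw [monomial_sd]; simp [MvPolynomial.algebraMap_eq]
    simp only [hA, coeff_monomial, sd_inj, Matrix.cons_val_zero, Matrix.cons_val_one]
    refine ⟨?_, ?_, ?_, ?_⟩
    · rw [add_pow, mul_sum, coeff_sum]
      have : ∀ l ∈ range (b + 1), coeff (sd3 i j k) (C c * X 0 ^ a *
          ((X 1 : MvPolynomial (Fin 3) R) ^ l * X 2 ^ (b - l) * (b.choose l : MvPolynomial (Fin 3) R))) =
          if a = i ∧ l = j ∧ b - l = k then c * (b.choose l : R) else 0 := fun l _ => by
        rw [← map_natCast (C : R →+* MvPolynomial (Fin 3) R),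
          show C c * X 0 ^ a * ((X 1 : MvPolynomial (Fin 3) R) ^ l * X 2 ^ (b - l) * C (b.choose l : R)) =
            monomial (sd3 a l (b - l)) (c * (b.choose l : R)) by rw [monomial_sd3, C_mul]; ring, coeff_monomial]
        simp only [sd3_inj]
      rw [Finset.sum_congr rfl this]
      by_cases h : a = i ∧ b = j + k
      · obtain ⟨rfl, rfl⟩ := h
        rw [Finset.sum_eq_single j]
        · simp [mul_comm]
        · intro l _ hl; rw [if_neg]; exact fun h => hl h.2.1
        · intro h; simp at h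
      · rw [if_neg h, mul_zero]
        refine Finset.sum_eq_zero fun l hl => if_neg ?_
        rw [Finset.mem_range] at hl
        rintro ⟨rfl, rfl, rfl⟩
        exact h ⟨rfl, by omega⟩
    · rw [show C c * (X 1 : MvPolynomial (Fin 3) R) ^ a * X 2 ^ b = monomial (sd3 0 a b) c by
        rw [monomial_sd3, pow_zero, mul_one], coeff_monomial]
      simp only [sd3_inj]
      by_cases h : i = 0 <;> simp [h, eq_comm]
    · rw [add_pow, mul_sum, Finset.sum_mul, coeff_sum]
      have : ∀ l ∈ range (a + 1), coeff (sd3 i j k) (C c *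
          ((X 0 : MvPolynomial (Fin 3) R) ^ l * X 1 ^ (a - l) * (a.choose l : MvPolynomial (Fin 3) R)) * X 2 ^ b) =
          if l = i ∧ a - l = j ∧ b = k then c * (a.choose l : R) else 0 := fun l _ => by
        rw [← map_natCast (C : R →+* MvPolynomial (Fin 3) R),
          show C c * ((X 0 : MvPolynomial (Fin 3) R) ^ l * X 1 ^ (a - l) * C (a.choose l : R)) * X 2 ^ b =
            monomial (sd3 l (a - l) b) (c * (a.choose l : R)) by rw [monomial_sd3, C_mul]; ring, coeff_monomial]
        simp only [sd3_inj]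
      rw [Finset.sum_congr rfl this]
      by_cases h : a = i + j ∧ b = k
      · obtain ⟨rfl, rfl⟩ := h
        rw [Finset.sum_eq_single i]
        · simp [mul_comm]
        · intro l _ hl; rw [if_neg]; exact fun h => hl h.1
        · intro h; simp at h
      · rw [if_neg h, mul_zero]
        refine Finset.sum_eq_zero fun l hl => if_neg ?_
        rw [Finset.mem_range] at hl
        rintro ⟨rfl, rfl, rfl⟩
        exact h ⟨by omega, rfl⟩
    · rw [show C c * (X 0 : MvPolynomial (Fin 3) R) ^ a * X 1 ^ b = monomial (sd3 a b 0) c by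
        rw [monomial_sd3, pow_zero, mul_one], coeff_monomial]
      simp only [sd3_inj]
      by_cases h : k = 0 <;> simp [h, eq_comm]

omit hp [CharP R p] in
theorem coeff_swap (F : MvPolynomial (Fin 2) R) (i j : ℕ) :
    coeff (sd i j) (aeval ![X 1, X 0] F : MvPolynomial (Fin 2) R) = coeff (sd j i) F := by
  induction F using MvPolynomial.induction_on' with
  | add F G hF hG => rw [map_add, coeff_add, hF, hG, coeff_add]
  | monomial d c =>
    obtain ⟨a, b, rfl⟩ : ∃ a b, d = sd a b := ⟨d 0, d 1, eq_sd d⟩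
    rw [show monomial (sd a b) c = C c * X 0 ^ a * X 1 ^ b from monomial_sd a b c]
    simp only [map_mul, map_pow, aeval_X, aeval_C, MvPolynomial.algebraMap_eq, Matrix.cons_val_zero,
      Matrix.cons_val_one]
    rw [show C c * (X 1 : MvPolynomial (Fin 2) R) ^ a * X 0 ^ b = C c * X 0 ^ b * X 1 ^ a by ring,
      ← monomial_sd, ← monomial_sd, coeff_monomial, coeff_monomial]
    simp only [sd_inj, and_comm]

/-- coboundary of a polynomial in one variable -/
noncomputable def dlt (G : Polynomial R) : MvPolynomial (Fin 2) R :=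
  Polynomial.aeval (X 0 + X 1 : MvPolynomial (Fin 2) R) G
    - Polynomial.aeval (X 0 : MvPolynomial (Fin 2) R) G - Polynomial.aeval (X 1 : MvPolynomial (Fin 2) R) G

/-- Witt's cocycle, twisted by the `t`-th Frobenius -/
noncomputable def witt (t : ℕ) : MvPolynomial (Fin 2) R :=
  aeval ![X 0 ^ p ^ t, X 1 ^ p ^ t]
    (∑ j ∈ Finset.Ioo 0 p, C ((p.choose j / p : ℕ) : R) * X 0 ^ j * X 1 ^ (p - j) : MvPolynomial (Fin 2) R)

omit hp [CharP R p] in
theorem coeff_dlt (G : Polynomial R) (i j : ℕ) :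
    coeff (sd i j) (dlt G) =
      if i = 0 then (if j = 0 then -G.coeff 0 else 0)
      else if j = 0 then 0 else ((i + j).choose i : R) * G.coeff (i + j) := by
  rw [dlt, coeff_sub, coeff_sub, coeff_aeval_add, coeff_aeval_X_zero, coeff_aeval_X_one]
  rcases Nat.eq_zero_or_pos i with rfl | hi <;> rcases Nat.eq_zero_or_pos j with rfl | hj
  · simp
  · simp [hj.ne']
  · simp [hi.ne']
  · simp [hi.ne', hj.ne']

omit hp [CharP R p] in
theorem witt_eq (t : ℕ) : (witt p t : MvPolynomial (Fin 2) R) =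
    ∑ j ∈ Finset.Ioo 0 p, monomial (sd (j * p ^ t) ((p - j) * p ^ t)) ((p.choose j / p : ℕ) : R) := by
  rw [witt, map_sum]
  refine Finset.sum_congr rfl fun j _ => ?_
  simp only [map_mul, map_pow, aeval_X, aeval_C, MvPolynomial.algebraMap_eq, Matrix.cons_val_zero,
    Matrix.cons_val_one, monomial_sd, ← pow_mul]
  ring

omit [CharP R p] in
theorem coeff_witt (t i j : ℕ) :
    coeff (sd i j) (witt p t : MvPolynomial (Fin 2) R) =
      if p ^ t ∣ i ∧ i + j = p ^ (t + 1) ∧ 0 < i ∧ 0 < j then ((p.choose (i / p ^ t) / p : ℕ) : R) else 0 := by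
  have hq := pow_pos hp.out.pos t
  rw [witt_eq, coeff_sum]
  simp only [coeff_monomial, sd_inj]
  split
  · rename_i h
    obtain ⟨⟨a, rfl⟩, hsum, hi, hj⟩ := h
    rw [Nat.mul_div_cancel_left _ hq]
    have ha0 : 0 < a := Nat.pos_of_mul_pos_left hi
    have hap : a < p := by
      refine Nat.lt_of_mul_lt_mul_left (a := p ^ t) ?_
      rw [← pow_succ]; omega
    rw [Finset.sum_eq_single a]
    · rw [if_pos ⟨mul_comm _ _, by rw [Nat.sub_mul, ← pow_succ', mul_comm a]; omega⟩]
    · intro b _ hb; rw [if_neg]; rintro ⟨hb', -⟩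
      exact hb (Nat.eq_of_mul_eq_mul_right hq (by rw [hb', mul_comm]))
    · intro h; exact absurd (Finset.mem_Ioo.2 ⟨ha0, hap⟩) h
  · rename_i h
    refine Finset.sum_eq_zero fun b hb => if_neg ?_
    rw [Finset.mem_Ioo] at hb
    rintro ⟨rfl, rfl⟩
    exact h ⟨dvd_mul_left _ _, by rw [← add_mul, Nat.add_sub_cancel' hb.2.le, pow_succ'],
      Nat.mul_pos hb.1 hq, Nat.mul_pos (by omega) hq⟩

/-- Lazard's lemma in characteristic `p`, with control of the coefficients -/
theorem exists_eq_dlt_add_witt (F : MvPolynomial (Fin 2) R) (K : Ideal R) (hK : ∀ d, coeff d F ∈ K)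
    (hsymm : aeval ![X 1, X 0] F = F)
    (hcoc : aeval ![X 0, X 1 + X 2] F + aeval ![X 1, X 2] F - aeval ![X 0 + X 1, X 2] F
      - aeval ![X 0, X 1] F = (0 : MvPolynomial (Fin 3) R)) :
    ∃ (G : Polynomial R) (N : ℕ) (r : ℕ → R), (∀ n, G.coeff n ∈ K) ∧ (∀ t, r t ∈ K) ∧
      F = dlt G + ∑ t ∈ range N, C (r t) * witt p t := by
  classical
  let f : ℕ → ℕ → R := fun i j => coeff (sd i j) F
  have hs : ∀ i j, f i j = f j i := fun i j => by
    show coeff (sd i j) F = coeff (sd j i) F
    conv_lhs => rw [← hsymm]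
    exact coeff_swap F i j
  have hc : ∀ i j k, ((j + k).choose j : R) * f i (j + k) + (if i = 0 then f j k else 0)
      - ((i + j).choose i : R) * f (i + j) k - (if k = 0 then f i j else 0) = 0 := fun i j k => by
    obtain ⟨h1, h2, h3, h4⟩ := coeff_cocycle_terms F i j k
    have := congrArg (coeff (sd3 i j k)) hcoc
    rwa [coeff_sub, coeff_sub, coeff_add, h1, h2, h3, h4, coeff_zero] at this
  have hrel : ∀ i j k, 1 ≤ i → 1 ≤ k →
      ((j + k).choose j : R) * f i (j + k) = ((i + j).choose i : R) * f (i + j) k := by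
    intro i j k hi hk
    have := hc i j k
    rw [if_neg (show ¬ i = 0 by omega), if_neg (show ¬ k = 0 by omega), add_zero, sub_zero] at this
    exact sub_eq_zero.1 this
  have hi0 : ∀ i, 0 < i → f i 0 = 0 := by
    intro i hi
    simpa [hi.ne'] using hc i 0 0
  set D := F.totalDegree + 1 with hD
  have hbig : ∀ i j, D ≤ i + j → f i j = 0 := by
    intro i j hij
    apply coeff_eq_zero_of_totalDegree_lt
    show F.totalDegree < ∑ x ∈ (sd i j).support, sd i j x
    have : (∑ x ∈ (sd i j).support, sd i j x) = i + j := by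
      rw [Finset.sum_subset (Finset.subset_univ _) (fun x _ hx => Finsupp.notMem_support_iff.1 hx),
        Fin.sum_univ_two, sd_apply_zero, sd_apply_one]
    omega
  have hg : ∀ N, ∃ g ∈ K, N < D → (N = 0 → g = -f 0 0) ∧ ((2 ≤ N ∧ ∀ t, N ≠ p ^ t) →
      ∀ m, 1 ≤ m → m < N → f m (N - m) = g * (N.choose m : R)) ∧ ((∃ t, N = p ^ t) → g = 0) := by
    intro N
    rcases Nat.eq_zero_or_pos N with rfl | hN
    · exact ⟨-f 0 0, K.neg_mem (hK _), fun _ => ⟨fun _ => rfl, fun h => absurd h.1 (by omega),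
        fun ⟨t, ht⟩ => absurd ht.symm (pow_pos hp.out.pos t).ne'⟩⟩
    · by_cases hP : ∃ t, N = p ^ t
      · exact ⟨0, K.zero_mem, fun _ => ⟨fun h => absurd h hN.ne', fun h => absurd hP (fun ⟨t, ht⟩ => h.2 t ht),
          fun _ => rfl⟩⟩
      · push Not at hP
        rcases Nat.lt_or_ge N 2 with h2 | h2
        · exact absurd (show N = p ^ 0 by simp; omega) (hP 0)
        · obtain ⟨g, hgK, hg⟩ := core_nonpow p K f (fun i j => hK _) hs hrel h2 hP
          exact ⟨g, hgK, fun _ => ⟨fun h => absurd h hN.ne', fun _ => hg, fun ⟨t, ht⟩ => absurd ht (hP t)⟩⟩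
  choose g hgK hgP using hg
  choose r hrK hrP using fun t => core_pow p K f (fun i j => hK _) hs hrel t
  refine ⟨∑ n ∈ range D, Polynomial.monomial n (g n), D, r, fun n => ?_, hrK, ?_⟩
  · simp only [Polynomial.finsetSum_coeff, Polynomial.coeff_monomial, Finset.sum_ite_eq', Finset.mem_range]
    split
    · exact hgK n
    · exact K.zero_mem
  refine MvPolynomial.ext _ _ fun d => ?_
  obtain ⟨i, j, rfl⟩ : ∃ i j, d = sd i j := ⟨d 0, d 1, eq_sd d⟩
  rw [coeff_add, coeff_dlt, coeff_sum]
  simp only [coeff_C_mul, coeff_witt, Polynomial.finsetSum_coeff, Polynomial.coeff_monomial, Finset.sum_ite_eq',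
    Finset.mem_range]
  change f i j = _
  rcases Nat.eq_zero_or_pos i with rfl | hi
  · rw [Finset.sum_eq_zero (fun t _ => by rw [if_neg (by simp), mul_zero]), add_zero, if_pos rfl]
    rcases Nat.eq_zero_or_pos j with rfl | hj
    · rw [if_pos rfl, if_pos (by omega), (hgP 0 (by omega)).1 rfl, neg_neg]
    · rw [if_neg hj.ne', hs, hi0 j hj]
  rw [if_neg hi.ne']
  rcases Nat.eq_zero_or_pos j with rfl | hj
  · rw [Finset.sum_eq_zero (fun t _ => by rw [if_neg (by simp), mul_zero]), if_pos rfl, hi0 i hi, add_zero]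
  rw [if_neg hj.ne']
  by_cases hP : ∃ t, i + j = p ^ (t + 1)
  · obtain ⟨T, hT⟩ := hP
    have hgz : (if i + j < D then g (i + j) else 0) = 0 := by
      split
      · rename_i h; exact (hgP _ h).2.2 ⟨T + 1, hT⟩
      · rfl
    rw [hgz, mul_zero, zero_add]
    have hfT := hrP T i hi (by omega)
    rw [show p ^ (T + 1) - i = j by omega] at hfT
    rcases Nat.lt_or_ge T D with hTD | hTD
    · rw [Finset.sum_eq_single T]
      · rw [hfT]
        by_cases hd : p ^ T ∣ i
        · rw [if_pos hd, if_pos ⟨hd, hT, hi, hj⟩]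
        · rw [if_neg hd, if_neg (fun h => hd h.1), mul_zero]
      · intro t _ ht
        rw [if_neg, mul_zero]
        rintro ⟨-, h, -⟩
        exact ht (Nat.succ_injective (Nat.pow_right_injective hp.out.one_lt (h.symm.trans hT)))
      · intro h; exact absurd (Finset.mem_range.2 hTD) h
    · rw [hbig i j (by have := Nat.lt_pow_self (n := T + 1) hp.out.one_lt; omega)]
      refine (Finset.sum_eq_zero fun t ht => ?_).symm
      rw [if_neg, mul_zero]
      rintro ⟨-, h, -⟩
      rw [Finset.mem_range] at ht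
      have := Nat.succ_injective (Nat.pow_right_injective hp.out.one_lt (h.symm.trans hT))
      omega
  · push Not at hP
    rw [Finset.sum_eq_zero (fun t _ => by rw [if_neg (fun h => hP t h.2.1), mul_zero]), add_zero]
    have hnp : ∀ t, i + j ≠ p ^ t := by
      rintro (_ | t)
      · simp; omega
      · exact hP t
    split
    · rename_i h
      have := (hgP _ h).2.1 ⟨by omega, hnp⟩ i hi (by omega)
      rw [show i + j - i = j by omega] at this
      rw [this, mul_comm]
    · rename_i h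
      rw [mul_zero]; exact hbig i j (by omega)

end Coeff

end Groth.Agent.GaDual
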