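import Groth.Agent.GaDual.Cocycle

set_option autoImplicit false
universe u v

namespace Groth.Agent.GaDual

open Finset

/-- Witt's cocycle evaluated in a ring -/
noncomputable def wittP (p : ℕ) {B : Type u} [CommRing B] (a b : B) : B :=
  ∑ j ∈ Finset.Ioo 0 p, ((p.choose j / p : ℕ) : B) * a ^ j * b ^ (p - j)

theorem map_wittP (p : ℕ) {B : Type u} {B' : Type v} [CommRing B] [CommRing B'] (g : B →+* B') (a b : B) :
    g (wittP p a b) = wittP p (g a) (g b) := by
  simp [wittP]

variable (p : ℕ) [hp : Fact p.Prime]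

theorem p_mul_wittP {B : Type u} [CommRing B] (a b : B) :
    (p : B) * wittP p a b = (a + b) ^ p - a ^ p - b ^ p := by
  have h1 : Finset.range (p + 1) = insert 0 (insert p (Finset.Ioo 0 p)) := by
    ext x; simp; omega
  rw [add_pow, h1, Finset.sum_insert (by simp; exact hp.out.ne_zero.symm), Finset.sum_insert (by simp), wittP,
    Finset.mul_sum]
  simp only [pow_zero, Nat.sub_zero, Nat.choose_zero_right, Nat.sub_self, Nat.choose_self, Nat.cast_one,
    one_mul, mul_one]
  rw [show (b ^ p + (a ^ p + ∑ x ∈ Finset.Ioo 0 p, a ^ x * b ^ (p - x) * (p.choose x : B)) - a ^ p - b ^ p) =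
    ∑ x ∈ Finset.Ioo 0 p, a ^ x * b ^ (p - x) * (p.choose x : B) by ring]
  refine Finset.sum_congr rfl fun j hj => ?_
  rw [Finset.mem_Ioo] at hj
  conv_rhs => rw [← Nat.mul_div_cancel' (hp.out.dvd_choose_self (k := j) (by omega) hj.2)]
  push_cast; ring

theorem wittP_identities {B : Type u} [CommRing B] (a b c : B) :
    wittP p b a = wittP p a b ∧
      wittP p a (b + c) + wittP p b c - wittP p (a + b) c - wittP p a b = 0 := by
  let X : Fin 3 → MvPolynomial (Fin 3) ℤ := fun i => MvPolynomial.X i
  have h1 : wittP p (X 1) (X 0) = wittP p (X 0) (X 1) := by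
    refine mul_left_cancel₀ (Nat.cast_ne_zero.2 hp.out.ne_zero : (p : MvPolynomial (Fin 3) ℤ) ≠ 0) ?_
    rw [p_mul_wittP, p_mul_wittP]; ring
  have h2 : wittP p (X 0) (X 1 + X 2) + wittP p (X 1) (X 2) - wittP p (X 0 + X 1) (X 2)
      - wittP p (X 0) (X 1) = 0 := by
    refine mul_left_cancel₀ (Nat.cast_ne_zero.2 hp.out.ne_zero : (p : MvPolynomial (Fin 3) ℤ) ≠ 0) ?_
    simp only [mul_sub, mul_add, p_mul_wittP, mul_zero]; ring
  let g := (MvPolynomial.aeval ![a, b, c] : MvPolynomial (Fin 3) ℤ →ₐ[ℤ] B).toRingHom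
  have h1' := congrArg g h1
  have h2' := congrArg g h2
  simp only [map_add, map_sub, map_zero, map_wittP] at h1' h2'
  simp [g, X] at h1' h2'
  exact ⟨h1', h2'⟩

section

variable {R : Type u} [CommRing R] [CharP R p]

omit [CharP R p] in
theorem aeval_witt {B : Type u} [CommRing B] [Algebra R B] (v : Fin 2 → B) (t : ℕ) :
    MvPolynomial.aeval v (witt p t : MvPolynomial (Fin 2) R) = wittP p (v 0 ^ p ^ t) (v 1 ^ p ^ t) := by
  rw [witt, wittP, map_sum, map_sum]
  refine Finset.sum_congr rfl fun j _ => ?_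
  simp

omit hp [CharP R p] in
theorem aeval_dlt {B : Type u} [CommRing B] [Algebra R B] (v : Fin 2 → B) (G : Polynomial R) :
    MvPolynomial.aeval v (dlt G) =
      Polynomial.aeval (v 0 + v 1) G - Polynomial.aeval (v 0) G - Polynomial.aeval (v 1) G := by
  simp [dlt, ← Polynomial.aeval_algHom_apply]

theorem dlt_add_witt_isCocycle (G : Polynomial R) (N : ℕ) (r : ℕ → R) :
    let F := dlt G + ∑ t ∈ range N, MvPolynomial.C (r t) * witt p t
    MvPolynomial.aeval ![MvPolynomial.X 1, MvPolynomial.X 0] F = F ∧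
      MvPolynomial.aeval ![MvPolynomial.X 0, MvPolynomial.X 1 + MvPolynomial.X 2] F
        + MvPolynomial.aeval ![MvPolynomial.X 1, MvPolynomial.X 2] F
        - MvPolynomial.aeval ![MvPolynomial.X 0 + MvPolynomial.X 1, MvPolynomial.X 2] F
        - MvPolynomial.aeval ![MvPolynomial.X 0, MvPolynomial.X 1] F = (0 : MvPolynomial (Fin 3) R) := by
  intro F
  have hF : ∀ {ι : Type} (v : Fin 2 → MvPolynomial ι R), MvPolynomial.aeval v F =
      (Polynomial.aeval (v 0 + v 1) G - Polynomial.aeval (v 0) G - Polynomial.aeval (v 1) G) +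
        ∑ t ∈ range N, MvPolynomial.C (r t) * wittP p (v 0 ^ p ^ t) (v 1 ^ p ^ t) := by
    intro ι v
    simp only [F, map_add, map_sum, map_mul, MvPolynomial.aeval_C, aeval_dlt, aeval_witt, MvPolynomial.algebraMap_eq]
  constructor
  · conv_rhs => rw [← MvPolynomial.aeval_X_left_apply F, hF]
    rw [hF]
    simp only [Matrix.cons_val_zero, Matrix.cons_val_one]
    congr 1
    · rw [add_comm (MvPolynomial.X 1 : MvPolynomial (Fin 2) R)]; ring
    · exact Finset.sum_congr rfl fun t _ => by rw [(wittP_identities p _ _ (0 : MvPolynomial (Fin 2) R)).1]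
  · simp only [hF, Matrix.cons_val_zero, Matrix.cons_val_one]
    set x : Fin 3 → MvPolynomial (Fin 3) R := fun i => MvPolynomial.X i
    have hw : ∀ t ∈ range N, MvPolynomial.C (r t) * wittP p (x 0 ^ p ^ t) ((x 1 + x 2) ^ p ^ t)
        + MvPolynomial.C (r t) * wittP p (x 1 ^ p ^ t) (x 2 ^ p ^ t)
        - MvPolynomial.C (r t) * wittP p ((x 0 + x 1) ^ p ^ t) (x 2 ^ p ^ t)
        - MvPolynomial.C (r t) * wittP p (x 0 ^ p ^ t) (x 1 ^ p ^ t) = 0 := fun t _ => by
      rw [← mul_add, ← mul_sub, ← mul_sub, add_pow_char_pow, add_pow_char_pow,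
        (wittP_identities p _ _ _).2, mul_zero]
    have hs := Finset.sum_eq_zero hw
    simp only [Finset.sum_sub_distrib, Finset.sum_add_distrib] at hs
    rw [← add_assoc (x 0) (x 1) (x 2)]
    linear_combination hs

/-- truncated exponential evaluated in a ring -/
noncomputable def expR {B : Type u} [CommRing B] (x : B) : B :=
  ∑ j ∈ range p, Ring.inverse (j.factorial : B) * x ^ j

theorem expR_eq_one_add {B : Type u} [CommRing B] (x : B) : ∃ z, expR p x = 1 + x * z := by
  obtain ⟨q, hq⟩ : ∃ q, p = q + 1 := ⟨p - 1, by have := hp.out.pos; omega⟩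
  refine ⟨∑ j ∈ range q, Ring.inverse ((j + 1).factorial : B) * x ^ j, ?_⟩
  rw [expR, hq, Finset.sum_range_succ', Finset.mul_sum, add_comm]
  congr 1
  · simp
  · exact Finset.sum_congr rfl fun j _ => by rw [pow_succ]; ring

theorem inverse_factorial_mul {B : Type u} [CommRing B] [CharP B p] {i j : ℕ} (h : i + j = p) (hi : 0 < i)
    (hj : 0 < j) :
    Ring.inverse (i.factorial : B) * Ring.inverse (j.factorial : B) = -((p.choose i / p : ℕ) : B) := by
  have h1 := isUnit_factorial (A := B) p (show i < p by omega)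
  have h2 := isUnit_factorial (A := B) p (show j < p by omega)
  have hN : i.factorial * j.factorial * (p.choose i / p) = (p - 1).factorial := by
    refine Nat.eq_of_mul_eq_mul_left hp.out.pos ?_
    rw [Nat.mul_factorial_pred hp.out.ne_zero,
      show p * (i.factorial * j.factorial * (p.choose i / p)) = p * (p.choose i / p) * i.factorial * j.factorial by ring,
      Nat.mul_div_cancel' (hp.out.dvd_choose_self (by omega) (by omega)), show j = p - i by omega,
      Nat.choose_mul_factorial_mul_factorial (by omega)]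
  have hW : (((p - 1).factorial : ℕ) : B) = -1 := by
    have := congrArg (ZMod.castHom (dvd_refl p) B) (ZMod.wilsons_lemma p)
    rwa [map_natCast, map_neg, map_one] at this
  rw [← hN] at hW
  push_cast at hW
  refine (h1.mul h2).mul_left_cancel ?_
  calc _ = ((i.factorial : B) * Ring.inverse (i.factorial : B)) *
        ((j.factorial : B) * Ring.inverse (j.factorial : B)) := by ring
    _ = 1 := by rw [Ring.mul_inverse_cancel _ h1, Ring.mul_inverse_cancel _ h2, one_mul]
    _ = _ := by rw [mul_neg, hW, neg_neg]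

theorem expR_mul {B : Type u} [CommRing B] [CharP B p] (u x y : B) (hu : u ^ (p + 1) = 0) :
    expR p (u * (x + y)) = expR p (u * x) * expR p (u * y) * (1 + u ^ p * wittP p x y) := by
  classical
  let T : ℕ × ℕ → B := fun q =>
    Ring.inverse (q.1.factorial : B) * Ring.inverse (q.2.factorial : B) * u ^ (q.1 + q.2) * (x ^ q.1 * y ^ q.2)
  have hprod : expR p (u * x) * expR p (u * y) = ∑ q ∈ range p ×ˢ range p, T q := by
    rw [expR, expR, Finset.sum_mul_sum, ← Finset.sum_product']
    exact Finset.sum_congr rfl fun q _ => by simp only [T, mul_pow, pow_add]; ring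
  have hlow : ∀ m < p, Ring.inverse (m.factorial : B) * (u * (x + y)) ^ m =
      ∑ q ∈ (range p ×ˢ range p).filter (fun q => q.1 + q.2 = m), T q := by
    intro m hm
    have : (range p ×ˢ range p).filter (fun q : ℕ × ℕ => q.1 + q.2 = m) = Finset.HasAntidiagonal.antidiagonal m := by
      ext q; simp [Finset.HasAntidiagonal.mem_antidiagonal]; omega
    rw [this, mul_pow, (Commute.all x y).add_pow', Finset.mul_sum, Finset.mul_sum]
    refine Finset.sum_congr rfl fun q hq => ?_
    rw [Finset.HasAntidiagonal.mem_antidiagonal] at hq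
    subst hq
    have h1 := isUnit_factorial (A := B) p (show q.1 < p by omega)
    have h2 := isUnit_factorial (A := B) p (show q.2 < p by omega)
    have h3 := isUnit_factorial (A := B) p hm
    have key : Ring.inverse ((q.1 + q.2).factorial : B) * ((q.1 + q.2).choose q.1 : B) =
        Ring.inverse (q.1.factorial : B) * Ring.inverse (q.2.factorial : B) := by
      apply (h1.mul h2).mul_left_cancel
      calc _ = ((q.1 + q.2).factorial : B) * Ring.inverse ((q.1 + q.2).factorial : B) := by
            conv_rhs => arg 1; rw [← Nat.choose_mul_factorial_mul_factorial (Nat.le_add_right q.1 q.2), Nat.add_sub_cancel_left]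
            push_cast; ring
        _ = ((q.1.factorial : B) * Ring.inverse (q.1.factorial : B)) *
            ((q.2.factorial : B) * Ring.inverse (q.2.factorial : B)) := by
            rw [Ring.mul_inverse_cancel _ h1, Ring.mul_inverse_cancel _ h2, Ring.mul_inverse_cancel _ h3, one_mul]
        _ = _ := by ring
    simp only [T, nsmul_eq_mul]
    rw [← key]; ring
  have hmain : expR p (u * x) * expR p (u * y) = expR p (u * (x + y)) - u ^ p * wittP p x y := by
    rw [hprod, ← Finset.sum_filter_add_sum_filter_not _ (fun q : ℕ × ℕ => q.1 + q.2 < p)]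
    rw [sub_eq_add_neg]
    congr 1
    · rw [expR, Finset.sum_congr rfl fun m hm => hlow m (Finset.mem_range.1 hm)]
      rw [← Finset.sum_fiberwise_of_maps_to (g := fun q : ℕ × ℕ => q.1 + q.2) (t := range p)]
      · refine Finset.sum_congr rfl fun m hm => ?_
        rw [Finset.filter_filter]
        refine Finset.sum_congr (Finset.filter_congr fun q _ => ?_) fun _ _ => rfl
        rw [Finset.mem_range] at hm
        constructor
        · rintro ⟨-, h⟩; exact h
        · intro h; exact ⟨by omega, h⟩
      · intro q hq; exact Finset.mem_range.2 (Finset.mem_filter.1 hq).2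
    · have hsub : (Finset.Ioo 0 p).image (fun i => (i, p - i)) ⊆
          (range p ×ˢ range p).filter (fun q : ℕ × ℕ => ¬ q.1 + q.2 < p) := by
        intro q hq; obtain ⟨i, hi, rfl⟩ := Finset.mem_image.1 hq
        rw [Finset.mem_Ioo] at hi; simp; omega
      rw [← Finset.sum_subset hsub, Finset.sum_image (fun a _ b _ h => congrArg Prod.fst h), wittP, Finset.mul_sum,
        ← Finset.sum_neg_distrib]
      · refine Finset.sum_congr rfl fun i hi => ?_
        rw [Finset.mem_Ioo] at hi
        simp only [T]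
        rw [inverse_factorial_mul p (show i + (p - i) = p by omega) hi.1 (by omega), show i + (p - i) = p by omega]
        ring
      · intro q hq hnot
        simp at hq
        simp only [T]
        rw [pow_eq_zero_of_le (show p + 1 ≤ q.1 + q.2 by
          by_contra hc
          refine hnot (Finset.mem_image.2 ⟨q.1, Finset.mem_Ioo.2 ⟨by omega, by omega⟩, ?_⟩)
          ext <;> simp; omega) hu]
        simp
  obtain ⟨z, hz⟩ := expR_eq_one_add p (u * x)
  obtain ⟨z', hz'⟩ := expR_eq_one_add p (u * y)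
  rw [eq_sub_iff_add_eq] at hmain
  rw [← hmain, hz, hz']
  have h0 : u ^ p * u = 0 := by rw [← pow_succ]; exact hu
  linear_combination (-(x * z + y * z' + u * x * z * y * z') * wittP p x y) * h0

end

section Split

open MvPolynomial

variable {R : Type u} [CommRing R]

theorem aeval_mem_map_C {σ τ : Type} (v : σ → MvPolynomial τ R) {K : Ideal R} {F : MvPolynomial σ R}
    (h : F ∈ K.map (C : R →+* MvPolynomial σ R)) : aeval v F ∈ K.map (C : R →+* MvPolynomial τ R) := by
  have h' := Ideal.mem_map_of_mem (aeval v : MvPolynomial σ R →ₐ[R] MvPolynomial τ R).toRingHom h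
  rw [Ideal.map_map] at h'
  have e : ((aeval v : MvPolynomial σ R →ₐ[R] MvPolynomial τ R).toRingHom).comp C = C :=
    RingHom.ext fun r => by simp [MvPolynomial.algebraMap_eq]
  rwa [e] at h'

theorem mul_eq_zero_of_sq {σ : Type} {K : Ideal R} (hK : K * K = ⊥) {a b : MvPolynomial σ R}
    (ha : a ∈ K.map (C : R →+* MvPolynomial σ R)) (hb : b ∈ K.map (C : R →+* MvPolynomial σ R)) : a * b = 0 := by
  have := Ideal.mul_mem_mul ha hb
  rw [← Ideal.map_mul, hK, Ideal.map_bot] at this
  simpa using this

theorem polyAeval_mem_map_C {τ : Type} (x : MvPolynomial τ R) {K : Ideal R} {G : Polynomial R}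
    (h : ∀ n, G.coeff n ∈ K) : Polynomial.aeval x G ∈ K.map (C : R →+* MvPolynomial τ R) := by
  rw [Polynomial.aeval_eq_sum_range]
  refine Submodule.sum_mem _ fun n _ => ?_
  rw [MvPolynomial.smul_eq_C_mul]
  exact Ideal.mul_mem_right _ _ (Ideal.mem_map_of_mem _ (h n))

variable [CharP R p]

/-- one step: kill a cocycle congruent to `1` modulo a square-zero ideal `K` -/
theorem step_sqzero (K L : Ideal R) (hK : K * K = ⊥) (hKL : K * L = ⊥) (hKn : K ≤ L)
    (hroot : ∀ r ∈ K, ∃ s ∈ L, s ^ p = r)
    (h : MvPolynomial (Fin 2) R) (h1 : h - 1 ∈ K.map C)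
    (hsymm : aeval ![X 1, X 0] h = h)
    (hcoc : aeval ![(X 1 : MvPolynomial (Fin 3) R), X 2] h * aeval ![X 0, X 1 + X 2] h =
      aeval ![X 0 + X 1, X 2] h * aeval ![X 0, X 1] h) :
    ∃ f : Polynomial R, (∀ n, (f - 1).coeff n ∈ L) ∧
      Polynomial.aeval (X 0 + X 1 : MvPolynomial (Fin 2) R) f =
        Polynomial.aeval (X 0 : MvPolynomial (Fin 2) R) f * Polynomial.aeval (X 1 : MvPolynomial (Fin 2) R) f * h := by
  classical
  obtain ⟨F, hF⟩ : ∃ F, h = 1 + F := ⟨h - 1, by ring⟩
  subst hF
  rw [add_sub_cancel_left] at h1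
  simp only [map_add, map_one] at hcoc hsymm
  have z := fun {a b : MvPolynomial (Fin 3) R} => mul_eq_zero_of_sq (a := a) (b := b) hK
  obtain ⟨G, N, r, hG, hr, hFeq⟩ := exists_eq_dlt_add_witt p F K (fun d => MvPolynomial.mem_map_C_iff.1 h1 d)
    (by linear_combination hsymm) (by
      linear_combination hcoc - z (aeval_mem_map_C ![X 1, X 2] h1) (aeval_mem_map_C ![X 0, X 1 + X 2] h1)
        + z (aeval_mem_map_C ![X 0 + X 1, X 2] h1) (aeval_mem_map_C ![X 0, X 1] h1))
  choose s hsL hs using fun t => hroot (r t) (hr t)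
  let e : ℕ → Polynomial R := fun t => expR p (Polynomial.C (s t) * Polynomial.X ^ p ^ t)
  refine ⟨(1 + G) * ∏ t ∈ range N, e t, fun n => ?_, ?_⟩
  · have hm : ∀ f : Polynomial R, (∀ n, (f - 1).coeff n ∈ L) ↔
        Ideal.Quotient.mk (L.map Polynomial.C) f = 1 := fun f => by
      rw [← map_one (Ideal.Quotient.mk (L.map (Polynomial.C : R →+* Polynomial R))), Ideal.Quotient.eq,
        Ideal.mem_map_C_iff]
    refine (hm _).2 ?_ n
    have h0 : Ideal.Quotient.mk (L.map Polynomial.C) G = 0 :=
      Ideal.Quotient.eq_zero_iff_mem.2 (Ideal.mem_map_C_iff.2 fun n => hKn (hG n))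
    rw [map_mul, map_add, map_one, h0, add_zero, one_mul, map_prod]
    refine Finset.prod_eq_one fun t _ => ?_
    obtain ⟨z, hz⟩ := expR_eq_one_add p (Polynomial.C (s t) * Polynomial.X ^ p ^ t)
    have hz0 : Ideal.Quotient.mk (L.map (Polynomial.C : R →+* Polynomial R)) (Polynomial.C (s t)) = 0 :=
      Ideal.Quotient.eq_zero_iff_mem.2 (Ideal.mem_map_of_mem Polynomial.C (hsL t))
    rw [show e t = _ from hz, map_add, map_one, mul_assoc, map_mul, hz0, zero_mul, add_zero]
  set x : MvPolynomial (Fin 2) R := X 0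
  set y : MvPolynomial (Fin 2) R := X 1
  have z2 := fun {a b : MvPolynomial (Fin 2) R} => mul_eq_zero_of_sq (a := a) (b := b) hK
  have he : ∀ (t : ℕ) (w : MvPolynomial (Fin 2) R), Polynomial.aeval w (e t) = expR p (C (s t) * w ^ p ^ t) := by
    intro t w
    simp only [e, expR, map_sum, map_mul, map_pow, Polynomial.aeval_C, Polynomial.aeval_X, MvPolynomial.algebraMap_eq]
    refine Finset.sum_congr rfl fun j hj => ?_
    congr 1
    have hu := isUnit_factorial (A := Polynomial R) p (Finset.mem_range.1 hj)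
    have hu2 := isUnit_factorial (A := MvPolynomial (Fin 2) R) p (Finset.mem_range.1 hj)
    refine hu2.mul_left_cancel ?_
    rw [Ring.mul_inverse_cancel _ hu2, ← map_natCast (Polynomial.aeval w : Polynomial R →ₐ[R] MvPolynomial (Fin 2) R),
      ← map_mul, Ring.mul_inverse_cancel _ hu, map_one]
  have hE : ∀ t, Polynomial.aeval (x + y) (e t) =
      Polynomial.aeval x (e t) * Polynomial.aeval y (e t) * (1 + C (r t) * witt p t) := by
    intro t
    rw [he, he, he, add_pow_char_pow, expR_mul p]
    · rw [← C_pow, hs, ← aeval_X_left_apply (witt p t), aeval_witt]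
    · have hrs : r t * s t = 0 := by
        have := Ideal.mul_mem_mul (hr t) (hsL t)
        rwa [hKL, Ideal.mem_bot] at this
      rw [pow_succ, ← C_pow, hs, ← C_mul, hrs, map_zero]
  have hprod : ∀ n, ∏ t ∈ range n, (1 + C (r t) * witt p t) = (1 + ∑ t ∈ range n, C (r t) * witt p t : MvPolynomial (Fin 2) R) := by
    intro n
    induction n with
    | zero => simp
    | succ n ih =>
      rw [Finset.prod_range_succ, Finset.sum_range_succ, ih]
      have := z2 (Submodule.sum_mem _ fun t (_ : t ∈ range n) => Ideal.mul_mem_right (witt p t) _ (Ideal.mem_map_of_mem C (hr t)))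
        (Ideal.mul_mem_right (witt p n) _ (Ideal.mem_map_of_mem (C : R →+* MvPolynomial (Fin 2) R) (hr n)))
      linear_combination this
  have hS : (∑ t ∈ range N, C (r t) * witt p t) ∈ K.map (C : R →+* MvPolynomial (Fin 2) R) :=
    Submodule.sum_mem _ fun t _ => Ideal.mul_mem_right _ _ (Ideal.mem_map_of_mem C (hr t))
  have g0 := polyAeval_mem_map_C x hG
  have g1 := polyAeval_mem_map_C y hG
  have g2 := polyAeval_mem_map_C (x + y) hG
  rw [map_mul, map_mul, map_mul, map_prod, map_prod, map_prod, Finset.prod_congr rfl fun t _ => hE t,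
    Finset.prod_mul_distrib, Finset.prod_mul_distrib, hprod, hFeq]
  simp only [map_add, map_one, dlt]
  set A := Polynomial.aeval x G
  set B := Polynomial.aeval y G
  set D := Polynomial.aeval (x + y) G
  set S := ∑ t ∈ range N, C (r t) * witt p t
  set P := ∏ t ∈ range N, Polynomial.aeval x (e t)
  set Q := ∏ t ∈ range N, Polynomial.aeval y (e t)
  have e1 : D * S = 0 := z2 g2 hS
  have e2 : A * B = 0 := z2 g0 g1
  have e3 : A * A = 0 := z2 g0 g0
  have e4 : B * B = 0 := z2 g1 g1
  have e5 : A * D = 0 := z2 g0 g2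
  have e6 : B * D = 0 := z2 g1 g2
  have e7 : A * S = 0 := z2 g0 hS
  have e8 : B * S = 0 := z2 g1 hS
  linear_combination P * Q * (e1 - e2 + e3 + e4 + e2 + e2 - e5 - e6 - e7 - e8
    - A * e6 + A * e4 + B * e3 - A * e8)

omit hp [CharP R p] in
theorem charP_quotient {K : Ideal R} [hp : Fact p.Prime] [CharP R p] (hK : K ≠ ⊤) : CharP (R ⧸ K) p :=
  CharP.quotient' (R := R) p K fun n hn => by
    by_contra hne
    refine hK (Ideal.eq_top_of_isUnit_mem _ hn (isUnit_natCast' p fun hd => hne ?_))
    exact (CharP.cast_eq_zero_iff R p n).2 hd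

theorem split_filtration {I L : Ideal R} (hIL : I ≤ L) (hroot : ∀ r ∈ I, ∃ s ∈ L, s ^ p = r)
    (hLnil : L ≤ nilradical R) {M : ℕ} (hM : L ^ M = ⊥) :
    ∀ (k : ℕ) (m : ℕ), m + k = M → ∀ h : MvPolynomial (Fin 2) R, h - 1 ∈ (I * L ^ m).map C →
      aeval ![X 1, X 0] h = h →
      aeval ![(X 1 : MvPolynomial (Fin 3) R), X 2] h * aeval ![X 0, X 1 + X 2] h =
        aeval ![X 0 + X 1, X 2] h * aeval ![X 0, X 1] h →
      ∃ f : Polynomial R, IsUnit f ∧
        Polynomial.aeval (X 0 + X 1 : MvPolynomial (Fin 2) R) f =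
          Polynomial.aeval (X 0 : MvPolynomial (Fin 2) R) f * Polynomial.aeval (X 1 : MvPolynomial (Fin 2) R) f * h := by
  intro k
  induction k with
  | zero =>
    intro m hm h h1 _ _
    rw [show m = M by omega, hM, Ideal.mul_bot, Ideal.map_bot, Ideal.mem_bot, sub_eq_zero] at h1
    exact ⟨1, isUnit_one, by simp [h1]⟩
  | succ k ih =>
    intro m hm h h1 hsymm hcoc
    have : Nontrivial R := CharP.nontrivial_of_char_ne_one (v := p) (R := R) hp.out.ne_one
    set K' := I * L ^ (m + 1) with hK'
    have hK'top : K' ≠ ⊤ := by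
      intro ht
      have : (⊤ : Ideal R) ≤ nilradical R := ht ▸ (Ideal.mul_le_right.trans ((Ideal.pow_le_self (Nat.succ_ne_zero m)).trans hLnil))
      exact not_isNilpotent_one (this Submodule.mem_top)
    have := charP_quotient p hK'top
    let π := Ideal.Quotient.mk K'
    have hπ : Function.Surjective π := Ideal.Quotient.mk_surjective
    have hzero : ∀ J : Ideal R, J ≤ K' → J.map π = ⊥ := fun J hJ => by
      rw [Ideal.map_eq_bot_iff_le_ker, Ideal.mk_ker]; exact hJ
    let K := (I * L ^ m).map π
    have hsq : K * K = ⊥ := by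
      rw [← Ideal.map_mul]; refine hzero _ ?_
      calc (I * L ^ m) * (I * L ^ m) ≤ (I * L ^ m) * L := mul_le_mul' le_rfl (Ideal.mul_le_left.trans hIL)
        _ = K' := by rw [hK', pow_succ]; ring
    have hKL : K * L.map π = ⊥ := by
      rw [← Ideal.map_mul]; refine hzero _ ?_
      rw [hK', pow_succ, mul_assoc]
    have hpm : ∀ {σ : Type} (v : Fin 2 → MvPolynomial σ R) (w : Fin 2 → MvPolynomial σ (R ⧸ K')),
        (∀ i, MvPolynomial.map π (v i) = w i) → ∀ g : MvPolynomial (Fin 2) R,
        MvPolynomial.map π (aeval v g) = aeval w (MvPolynomial.map π g) := fun v w hvw g => by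
      induction g using MvPolynomial.induction_on with
      | C a => simp [MvPolynomial.algebraMap_eq]
      | add a b ha hb => simp only [map_add, ha, hb]
      | mul_X a i ha => simp only [map_mul, aeval_X, MvPolynomial.map_X, ha, hvw]
    have hsy := congrArg (MvPolynomial.map π) hsymm
    rw [hpm _ ![X 1, X 0] (by intro i; fin_cases i <;> simp)] at hsy
    have hco := congrArg (MvPolynomial.map π) hcoc
    rw [map_mul, map_mul, hpm _ ![X 1, X 2] (by intro i; fin_cases i <;> simp),
      hpm _ ![X 0, X 1 + X 2] (by intro i; fin_cases i <;> simp),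
      hpm _ ![X 0 + X 1, X 2] (by intro i; fin_cases i <;> simp),
      hpm _ ![X 0, X 1] (by intro i; fin_cases i <;> simp)] at hco
    have hb1 : MvPolynomial.map π h - 1 ∈ K.map C := by
      rw [MvPolynomial.mem_map_C_iff]
      intro d
      rw [← map_one (MvPolynomial.map π), ← map_sub, MvPolynomial.coeff_map]
      exact Ideal.mem_map_of_mem π (MvPolynomial.mem_map_C_iff.1 h1 d)
    have hroot' : ∀ r ∈ K, ∃ s ∈ L.map π, s ^ p = r := fun r hr => by
      obtain ⟨r', hr', rfl⟩ := (Ideal.mem_map_iff_of_surjective π hπ).1 hr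
      obtain ⟨s, hs, hsr⟩ := hroot r' (Ideal.mul_le_left hr')
      exact ⟨π s, Ideal.mem_map_of_mem π hs, by rw [← map_pow, hsr]⟩
    obtain ⟨fb, hfb, hfeq⟩ := step_sqzero p K (L.map π) hsq hKL
      (Ideal.map_mono (Ideal.mul_le_left.trans hIL)) hroot' _ hb1 hsy hco
    choose c hcL hc using fun n => (Ideal.mem_map_iff_of_surjective π hπ).1 (hfb n)
    let f : Polynomial R := 1 + ∑ n ∈ (fb - 1).support, Polynomial.monomial n (c n)
    have hfmap : f.map π = fb := by
      simp only [f, Polynomial.map_add, Polynomial.map_one, Polynomial.map_sum, Polynomial.map_monomial, hc]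
      rw [← Polynomial.as_sum_support (fb - 1), add_sub_cancel]
    have hfu : IsUnit f := by
      refine IsNilpotent.isUnit_one_add ?_
      exact isNilpotent_sum fun n _ => by
        rw [← Polynomial.C_mul_X_pow_eq_monomial]
        exact Commute.isNilpotent_mul_right (Commute.all _ _) ((show IsNilpotent (c n) from hLnil (hcL n)).map Polynomial.C)
    obtain ⟨u, hu⟩ := hfu
    have hfg : ∀ {σ : Type} (a : MvPolynomial σ R), Polynomial.aeval a f * Polynomial.aeval a (u⁻¹ : (Polynomial R)ˣ).1 = 1 := fun a => by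
      rw [← map_mul, ← hu, Units.mul_inv, map_one]
    set g : Polynomial R := (u⁻¹ : (Polynomial R)ˣ).1
    let h' : MvPolynomial (Fin 2) R := h * Polynomial.aeval (X 0 : MvPolynomial (Fin 2) R) f *
      Polynomial.aeval (X 1 : MvPolynomial (Fin 2) R) f * Polynomial.aeval (X 0 + X 1 : MvPolynomial (Fin 2) R) g
    have hh' : ∀ {σ : Type} (v : Fin 2 → MvPolynomial σ R), aeval v h' =
        aeval v h * Polynomial.aeval (v 0) f * Polynomial.aeval (v 1) f * Polynomial.aeval (v 0 + v 1) g := fun v => by
      simp [h', ← Polynomial.aeval_algHom_apply]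
    suffices hsuff : (h' - 1 ∈ (I * L ^ (m + 1)).map C) ∧ aeval ![X 1, X 0] h' = h' ∧
        aeval ![(X 1 : MvPolynomial (Fin 3) R), X 2] h' * aeval ![X 0, X 1 + X 2] h' =
          aeval ![X 0 + X 1, X 2] h' * aeval ![X 0, X 1] h' by
      obtain ⟨f', hf'u, hf'⟩ := ih (m + 1) (by omega) h' hsuff.1 hsuff.2.1 hsuff.2.2
      refine ⟨f * f', IsUnit.mul ⟨u, hu⟩ hf'u, ?_⟩
      simp only [map_mul, hf', h']
      linear_combination (Polynomial.aeval (X 0 : MvPolynomial (Fin 2) R) f' * Polynomial.aeval (X 1 : MvPolynomial (Fin 2) R) f' * h *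
        Polynomial.aeval (X 0 : MvPolynomial (Fin 2) R) f * Polynomial.aeval (X 1 : MvPolynomial (Fin 2) R) f) *
        hfg (X 0 + X 1 : MvPolynomial (Fin 2) R)
    refine ⟨?_, ?_, ?_⟩
    · rw [MvPolynomial.mem_map_C_iff]
      intro d
      rw [← Ideal.Quotient.eq_zero_iff_mem, ← MvPolynomial.coeff_map, map_sub, map_one]
      have hpa : ∀ (a : MvPolynomial (Fin 2) R) (b : MvPolynomial (Fin 2) (R ⧸ K')) (q : Polynomial R),
          MvPolynomial.map π a = b → MvPolynomial.map π (Polynomial.aeval a q) = Polynomial.aeval b (q.map π) := by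
        intro a b q hab
        induction q using Polynomial.induction_on' with
        | add q1 q2 h1 h2 => simp [h1, h2]
        | monomial n c => simp [Polynomial.aeval_monomial, MvPolynomial.algebraMap_eq, hab]
      have : MvPolynomial.map π h' = 1 := by
        simp only [h', map_mul]
        rw [hpa _ (X 0) f (by simp), hpa _ (X 1) f (by simp), hpa _ (X 0 + X 1) g (by simp), hfmap,
          show MvPolynomial.map π h * Polynomial.aeval (X 0) fb * Polynomial.aeval (X 1) fb =
            Polynomial.aeval (X 0 + X 1 : MvPolynomial (Fin 2) (R ⧸ K')) fb by rw [hfeq]; ring,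
          ← hfmap, ← map_mul, ← Polynomial.map_mul, ← hu, Units.mul_inv, Polynomial.map_one, map_one]
      rw [this, sub_self, coeff_zero]
    · rw [hh', hsymm]
      simp only [h', Matrix.cons_val_zero, Matrix.cons_val_one]
      rw [add_comm (X 1 : MvPolynomial (Fin 2) R)]; ring
    · simp only [hh', Matrix.cons_val_zero, Matrix.cons_val_one]
      set x : Fin 3 → MvPolynomial (Fin 3) R := fun i => X i
      have a1 := hfg (x 1 + x 2)
      have a2 := hfg (x 0 + x 1)
      set P := Polynomial.aeval (x 0) f * Polynomial.aeval (x 1) f * Polynomial.aeval (x 2) f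
      rw [← add_assoc (x 0) (x 1) (x 2)]
      linear_combination (P * Polynomial.aeval (x 0 + x 1 + x 2) g) * hcoc +
        (aeval ![x 1, x 2] h * aeval ![x 0, x 1 + x 2] h * P * Polynomial.aeval (x 0 + x 1 + x 2) g) * a1 -
        (aeval ![x 0 + x 1, x 2] h * aeval ![x 0, x 1] h * P * Polynomial.aeval (x 0 + x 1 + x 2) g) * a2

theorem exists_splitting (hF : Function.Surjective (frobenius R p)) (h : MvPolynomial (Fin 2) R) (hu : IsUnit h)
    (h0 : aeval ![(X 0 : MvPolynomial (Fin 2) R), 0] h = 1)
    (hsymm : aeval ![(X 1 : MvPolynomial (Fin 2) R), X 0] h = h)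
    (hcoc : aeval ![(X 1 : MvPolynomial (Fin 3) R), X 2] h * aeval ![X 0, X 1 + X 2] h =
      aeval ![X 0 + X 1, X 2] h * aeval ![X 0, X 1] h) :
    ∃ f : Polynomial R, IsUnit f ∧
      Polynomial.aeval (X 0 + X 1 : MvPolynomial (Fin 2) R) f =
        Polynomial.aeval (X 0 : MvPolynomial (Fin 2) R) f * Polynomial.aeval (X 1 : MvPolynomial (Fin 2) R) f * h := by
  classical
  have hc0 : coeff 0 (h - 1) = 0 := by
    have e : ∀ g : MvPolynomial (Fin 2) R,
        constantCoeff (aeval ![(X 0 : MvPolynomial (Fin 2) R), 0] g) = constantCoeff g := fun g => by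
      induction g using MvPolynomial.induction_on with
      | C a => simp [MvPolynomial.algebraMap_eq]
      | add a b ha hb => simp only [map_add, ha, hb]
      | mul_X a i ha => fin_cases i <;> simp
    have := e h
    rw [h0, map_one] at this
    rw [← constantCoeff_eq, map_sub, map_one, ← this, sub_self]
  have hnil : ∀ d, IsNilpotent (coeff d (h - 1)) := fun d => by
    by_cases hd : d = 0
    · subst hd; rw [hc0]; exact IsNilpotent.zero
    · rw [coeff_sub, coeff_one, if_neg (Ne.symm hd), sub_zero]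
      exact (isUnit_iff.1 hu).2 d hd
  choose root hrootd using fun c : R => hF c
  let S : Finset R := (h - 1).support.image (fun d => coeff d (h - 1))
  let I : Ideal R := Ideal.span (S : Set R)
  let L : Ideal R := Ideal.span ((S ∪ S.image root : Finset R) : Set R)
  have hIL : I ≤ L := Ideal.span_mono (by simp)
  have hroot : ∀ r ∈ I, ∃ s ∈ L, s ^ p = r := by
    intro r hr
    induction hr using Submodule.span_induction with
    | mem x hx => exact ⟨root x, Ideal.subset_span (by simp at hx ⊢; exact Or.inr ⟨x, hx, rfl⟩), hrootd x⟩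
    | zero => exact ⟨0, L.zero_mem, zero_pow hp.out.ne_zero⟩
    | add x y _ _ hx hy =>
      obtain ⟨a, ha, rfl⟩ := hx
      obtain ⟨b, hb, rfl⟩ := hy
      exact ⟨a + b, L.add_mem ha hb, add_pow_char a b p⟩
    | smul c x _ hx =>
      obtain ⟨a, ha, rfl⟩ := hx
      exact ⟨root c * a, L.mul_mem_left _ ha, by rw [mul_pow, smul_eq_mul, show root c ^ p = c from hrootd c]⟩
  have hLnil : L ≤ nilradical R := by
    rw [Ideal.span_le]
    intro x hx
    simp only [Finset.coe_union, Finset.coe_image, Set.mem_union, Set.mem_image, S] at hx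
    rcases hx with ⟨d, -, rfl⟩ | ⟨_, ⟨d, -, rfl⟩, rfl⟩
    · exact hnil d
    · obtain ⟨n, hn⟩ := hnil d
      refine ⟨p * n, ?_⟩
      rw [pow_mul, show root (coeff d (h - 1)) ^ p = _ from hrootd _, hn]
      exact Ideal.zero_mem _
  obtain ⟨M, hM⟩ := (Ideal.FG.isNilpotent_iff_le_nilradical (I := L) ⟨_, rfl⟩).2 hLnil
  refine split_filtration p hIL hroot hLnil hM M 0 (by simp) h ?_ hsymm hcoc
  rw [pow_zero, mul_one, MvPolynomial.mem_map_C_iff]
  intro d
  by_cases hd : d ∈ (h - 1).support
  · exact Ideal.subset_span (Finset.mem_image_of_mem _ hd)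
  · rw [notMem_support_iff.1 hd]; exact I.zero_mem

end Split

end Groth.Agent.GaDual
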